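import Mathlib
import Cfsg.Agent.Lib.Sect.E8
import Cfsg.Agent.Lib.Sect.MacW
import Cfsg.Agent.Lib.Tech.SylowIn

/-!
A 2-group with an elementary abelian subgroup `A` of order 16 on which the elements of `N(A) ∖ A` have at most
four fixed points has sectional rank at most four.
-/

set_option autoImplicit false
set_option linter.unusedSectionVars false

namespace CfsgLib.Fix

open Subgroup CfsgLib.Sect CfsgLib.Tech

variable {G : Type*} [Group G] [Finite G]

theorem exists_cmod_in {S M N : Subgroup G} (hS : IsPGroup 2 S) (hMS : M ≤ S)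
    (hM : S ≤ normalizer (M : Set G)) (hN : S ≤ normalizer (N : Set G)) (h : ¬ M ≤ N) :
    ∃ x ∈ M, x ∉ N ∧ x * x ∈ N ∧ ∀ g ∈ S, x * g * x⁻¹ * g⁻¹ ∈ N := by
  have : (M.subgroupOf S).Normal :=
    ⟨fun x hx g => conj_mem_of_mem_normalizer (G := G) (hM g.2) hx⟩
  have : (N.subgroupOf S).Normal :=
    ⟨fun x hx g => conj_mem_of_mem_normalizer (G := G) (hN g.2) hx⟩
  obtain ⟨x, h1, h2, h3, h4⟩ := exists_cmod hS (M := M.subgroupOf S) (N := N.subgroupOf S)
    fun e => h fun x hx => e (x := ⟨x, hMS hx⟩) hx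
  exact ⟨x, h1, h2, h3, fun g hg => h4 ⟨g, hg⟩⟩

theorem harada_in {S E : Subgroup G} (hS : IsPGroup 2 S) (hE : E ≤ S) (h2 : ∀ e ∈ E, e * e = 1)
    (h8 : Nat.card E = 8) (hc : ∀ c ∈ S, (∀ e ∈ E, e * c = c * e) → c ∈ E) : SR 16 S := by
  refine sr_iff (k := 4).1 (sr_top_iff.2 (harada (A := E.subgroupOf S) hS
    (fun a ha => Subtype.ext (h2 a ha)) ((Nat.card_congr (subgroupOfEquivOfLe hE).toEquiv).trans h8)
    fun c h => hc c c.2 fun e he => congrArg Subtype.val (h ⟨e, hE he⟩ he)))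

theorem macw_in {S : Subgroup G} (hS : IsPGroup 2 S) (h : ∀ V ≤ S, S ≤ normalizer (V : Set G) →
    (∀ v ∈ V, v * v = 1) → Nat.card V ≤ 4) : SR 16 S := by
  refine sr_iff (k := 4).1 (sr_top_iff.2 (macw hS fun A hA h2 => ?_))
  rw [← card_map_of_injective (K := A) S.subtype_injective]
  refine h _ (map_subtype_le A) (fun g hg => mem_normalizer_of_forall ?_) ?_
  · rintro _ ⟨x, hx, rfl⟩
    exact ⟨_, hA.conj_mem x hx ⟨g, hg⟩, rfl⟩
  · rintro _ ⟨x, hx, rfl⟩
    exact congrArg Subtype.val (h2 x hx)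

/-- a 2-group normalising a group of order four centralises it up to index two -/
theorem cent_four {U Z : Subgroup G} (hU : IsPGroup 2 U) (hZU : Z ≤ U) (hn : U ≤ normalizer (Z : Set G))
    (h2 : ∀ z ∈ Z, z * z = 1) (h4 : Nat.card Z = 4) : (centralizer (Z : Set G)).relIndex U ≤ 2 := by
  obtain ⟨z, hz, z1, hzc⟩ := exists_cent_of_norm hU hZU
    (fun g hg x hx => conj_mem_of_mem_normalizer (hn hg) hx) (by rintro rfl; simp at h4)
  obtain ⟨v, hv, hvz⟩ := exists_notMem (K := zpowers z) (H := Z) (by rw [card_zpowers_two (h2 z hz) z1]; omega)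
  rw [mem_zpowers_two (h2 z hz), not_or] at hvz
  have key : ∀ x ∈ U, x * v = v * x → x ∈ centralizer (Z : Set G) := fun x hx e =>
    mem_cent'.2 fun y hy => by
      rcases four_cases h4.le hz hv (h2 z hz) z1 hvz.1 hvz.2 hy with rfl | rfl | rfl | rfl
      · simp
      · exact (hzc x hx).symm
      · exact e.symm
      · rw [mul_assoc, ← e, ← mul_assoc, ← hzc x hx, mul_assoc]
  have key2 : ∀ x ∈ U, x ∉ centralizer (Z : Set G) → x * v * x⁻¹ = z * v := fun x hx hx' => by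
    rcases four_cases h4.le hz hv (h2 z hz) z1 hvz.1 hvz.2
      (conj_mem_of_mem_normalizer (hn hx) hv) with e | e | e | e
    · exact (hvz.1 (by simpa using e)).elim
    · refine (hvz.2 ?_).elim
      calc v = x⁻¹ * (x * v * x⁻¹) * x := by group
        _ = x⁻¹ * (x * z) := by rw [e, hzc x hx, mul_assoc]
        _ = z := by group
    · exact (hx' (key x hx (mul_inv_eq_iff_eq_mul.1 e))).elim
    · exact e
  refine relIndex_le_two fun x hx y hy h1 h2 => key _ (mul_mem (inv_mem hx) hy) ?_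
  calc x⁻¹ * y * v = x⁻¹ * (y * v * y⁻¹) * y := by group
    _ = x⁻¹ * (x * v * x⁻¹) * y := by rw [key2 y hy h2, key2 x hx h1]
    _ = _ := by group

/-- `A` is elementary abelian of order 16 and the elements of `N(A) ∖ A` have at most four fixed points -/
structure FA (A : Subgroup G) : Prop where
  sq : ∀ a ∈ A, a * a = 1
  card : Nat.card A = 16
  cent : ∀ s ∈ normalizer (A : Set G), s ∉ A → Nat.card (centralizer {s} ⊓ A : Subgroup G) ≤ 4

namespace FA

variable {A W Z U H K : Subgroup G} (h : FA A)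
include h

theorem comm {a b : G} (ha : a ∈ A) (hb : b ∈ A) : a * b = b * a := comm_of_sq h.sq ha hb

theorem inv {a : G} (ha : a ∈ A) : a⁻¹ = a := inv_eq_of_mul_eq_one_right (h.sq a ha)

theorem cj (g : G) : FA (cj g A) where
  sq := by rintro _ ⟨a, ha, rfl⟩; rw [← map_mul, h.sq a ha, map_one]
  card := (card_cj g A).trans h.card
  cent := fun s hs hs' => by
    rw [← cj_normalizer, mem_cj] at hs
    have := h.cent _ hs fun e => hs' (mem_cj.2 e)
    rw [← card_cj g, cj_inf, cj_centralizer_singleton] at this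
    simpa [mul_assoc] using this

theorem free {s : G} (hs : s ∈ normalizer (A : Set G)) (hs' : s ∉ A) (h2 : s * s ∈ A) :
    Nat.card (centralizer {s} ⊓ A : Subgroup G) = 4 ∧
      ∀ u ∈ centralizer {s} ⊓ A, ∃ a ∈ A, a * s * a⁻¹ * s⁻¹ = u := by
  have hT : ∀ a ∈ A, a * s * a⁻¹ * s⁻¹ ∈ ((centralizer {s} ⊓ A : Subgroup G) : Set G) := fun a ha => by
    have h1 : s * a * s⁻¹ ∈ A := conj_mem_of_mem_normalizer hs ha
    refine ⟨mem_cent.2 ?_, by simpa [mul_assoc] using mul_mem ha (conj_mem_of_mem_normalizer hs (inv_mem ha))⟩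
    rw [h.inv ha]
    calc a * s * a * s⁻¹ * s = a * (s * a * s⁻¹) * s := by group
      _ = s * a * s⁻¹ * a * (s * s) * s⁻¹ := by rw [h.comm ha h1]; group
      _ = s * a * s⁻¹ * (s * s * a) * s⁻¹ := by rw [← h.comm ha h2]; group
      _ = _ := by group
  have hf : ∀ a ∈ A, ∀ b ∈ A, a * s * a⁻¹ * s⁻¹ = b * s * b⁻¹ * s⁻¹ → a⁻¹ * b ∈ centralizer {s} :=
    fun a _ b _ e => mem_cent.2 (comm_fib' e)
  have h1 := index_le A (centralizer {s}) _ _ hT hf
  have h3 := card_eq_relIndex (centralizer {s}) A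
  have h4 := h.cent s hs hs'
  rw [h.card] at h3
  simp only [SetLike.coe_sort_coe] at h1
  have h5 : Nat.card (centralizer {s} ⊓ A : Subgroup G) = 4 := by nlinarith
  refine ⟨h5, fun u hu => exists_of_index A (centralizer {s}) _ _ hT hf ?_ hu⟩
  simp only [SetLike.coe_sort_coe]
  rw [h5] at h3 ⊢
  omega

theorem mem_of_cent (hZ : Z ≤ A) (h4 : Nat.card Z = 4) {a s : G} (ha : a ∈ A) (ha' : a ∉ Z)
    (hs : s ∈ normalizer (A : Set G)) (h1 : s ∈ centralizer (Z : Set G)) (h2 : a * s = s * a) : s ∈ A := by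
  by_contra hs'
  have := two_mul_card_le (K := Z) (H := centralizer {s} ⊓ A)
    (fun z hz => ⟨mem_cent.2 (mem_cent'.1 h1 z hz), hZ hz⟩) fun e => ha' (e ⟨mem_cent.2 h2, ha⟩)
  have := h.cent s hs hs'
  omega

theorem bound1 (hZ : Z ≤ A) (h4 : Nat.card Z = 4) {a : G} (ha : a ∈ A) (ha' : a ∉ Z)
    (hU : U ≤ normalizer (A : Set G)) (hc : U ≤ centralizer (Z : Set G))
    (hm : ∀ u ∈ U, a * u * a⁻¹ * u⁻¹ ∈ Z) :
    A.relIndex U ≤ 4 ∧ (4 ≤ A.relIndex U → ∀ z ∈ Z, ∃ u ∈ U, a * u * a⁻¹ * u⁻¹ = z) := by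
  have hf : ∀ u ∈ U, ∀ v ∈ U, a * u * a⁻¹ * u⁻¹ = a * v * a⁻¹ * v⁻¹ → u⁻¹ * v ∈ A := fun u hu v hv e => by
    have h1 := mul_mem (inv_mem hu) hv
    refine h.mem_of_cent hZ h4 ha ha' (hU h1) (hc h1) ?_
    calc a * (u⁻¹ * v) = a * u⁻¹ * a⁻¹ * (a * v * a⁻¹ * v⁻¹) * v * a := by group
      _ = _ := by rw [← e]; group
  exact ⟨h4 ▸ index_le U A _ (Z : Set G) hm hf, fun e z hz =>
    exists_of_index U A _ (Z : Set G) hm hf (by simpa [h4] using e) hz⟩

variable (hG : IsPGroup 2 G)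
include hG

theorem exists_a (hZ : Z ≤ A) (h4 : Nat.card Z = 4) (hU : U ≤ normalizer (A : Set G))
    (hn : U ≤ normalizer (Z : Set G)) : ∃ a ∈ A, a ∉ Z ∧ ∀ u ∈ U, a * u * a⁻¹ * u⁻¹ ∈ Z := by
  obtain ⟨a, h1, h2, -, h3⟩ := exists_cmod_in (hG.to_subgroup (U ⊔ A)) le_sup_right
    (sup_le hU le_normalizer) (N := Z) (sup_le hn fun a ha => mem_normalizer_of_forall fun z hz => by
      rwa [h.comm ha (hZ hz), mul_inv_cancel_right]) fun e => by
        have := card_le_of_le e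
        rw [h.card] at this; omega
  exact ⟨a, h1, h2, fun u hu => h3 u (mem_sup_left hu)⟩

theorem bound (hZ : Z ≤ A) (h4 : Nat.card Z = 4) (hU : U ≤ normalizer (A : Set G))
    (hc : U ≤ centralizer (Z : Set G)) : A.relIndex U ≤ 4 := by
  obtain ⟨a, h1, h2, h3⟩ := h.exists_a hG hZ h4 hU (hc.trans (centralizer_le_normalizer _))
  exact (h.bound1 hZ h4 h1 h2 hU hc h3).1

/-- the fixed points of an element that is central modulo `A` -/
theorem cent_idx {k : G} (hH : H ≤ normalizer (A : Set G)) (hk : k ∈ normalizer (A : Set G)) (hk' : k ∉ A)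
    (h2 : k * k ∈ A) (hc : ∀ g ∈ H, k * g * k⁻¹ * g⁻¹ ∈ A) :
    (centralizer ((centralizer {k} ⊓ A : Subgroup G) : Set G)).relIndex H ≤ 2 := by
  refine (relIndex_mono_right _ (le_sup_left : H ≤ H ⊔ A)).trans (cent_four (hG.to_subgroup _)
    (inf_le_right.trans le_sup_right) (sup_le (fun g hg => ?_) fun g hg => ?_)
    (fun z hz => h.sq z hz.2) (h.free hk hk' h2).1)
  · refine mem_normalizer_of_forall fun z hz => ?_
    have h1 := conj_mem_of_mem_normalizer (hH hg) hz.2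
    refine ⟨mem_cent.2 ?_, h1⟩
    have e := h.comm (hc g hg) (conj_mem_of_mem_normalizer (hH hg) hz.2)
    have e2 := mem_cent.1 hz.1
    calc g * z * g⁻¹ * k = g * z * g⁻¹ * (k * g * k⁻¹ * g⁻¹) * g * k * g⁻¹ := by group
      _ = k * g * k⁻¹ * (z * k) * g⁻¹ := by rw [← e]; group
      _ = _ := by rw [e2]; group
  · exact mem_normalizer_of_forall fun z hz => by rwa [h.comm hg hz.2, mul_inv_cancel_right]

theorem idx8 (hH : H ≤ normalizer (A : Set G)) : A.relIndex H ≤ 8 := by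
  by_cases e : normalizer (A : Set G) ≤ A
  · rw [relIndex_eq_one.2 (hH.trans e)]; omega
  obtain ⟨k, h1, h2, h3, h4⟩ := exists_cmod_in (hG.to_subgroup _) le_rfl le_normalizer le_rfl e
  exact (relIndex_le_mul A H _).trans (Nat.mul_le_mul (h.bound hG inf_le_right (h.free h1 h2 h3).1
    (inf_le_left.trans hH) inf_le_right) (h.cent_idx hG hH h1 h2 h3 fun g hg => h4 g (hH hg)))

theorem idx4 (hH : H ≤ normalizer (A : Set G)) (hs : ∀ x ∈ H, x * x ∈ A) : A.relIndex H ≤ 4 := by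
  by_cases e : H ≤ A
  · rw [relIndex_eq_one.2 e]; omega
  obtain ⟨k, hk, hk'⟩ := SetLike.not_le_iff_exists.1 e
  have f1 := h.free (hH hk) hk' (hs k hk)
  by_cases e2 : H ≤ centralizer ((centralizer {k} ⊓ A : Subgroup G) : Set G)
  · exact h.bound hG inf_le_right f1.1 hH e2
  obtain ⟨r, hr, hr'⟩ := SetLike.not_le_iff_exists.1 e2
  have hrA : r ∉ A := fun e => hr' (mem_cent'.2 fun z hz => h.comm hz.2 e)
  have i1 := h.cent_idx hG hH (hH hk) hk' (hs k hk) fun g hg => comm_mem hs hk hg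
  have i2 := h.cent_idx hG (H := H ⊓ centralizer ((centralizer {k} ⊓ A : Subgroup G) : Set G))
    (inf_le_left.trans hH) (hH hr) hrA (hs r hr) fun g hg => comm_mem hs hr hg.1
  have i3 : A.relIndex (H ⊓ centralizer ((centralizer {k} ⊓ A : Subgroup G) : Set G) ⊓
      centralizer ((centralizer {r} ⊓ A : Subgroup G) : Set G)) = 1 := by
    refine relIndex_eq_one.2 fun b hb => ?_
    have : ¬ centralizer {r} ⊓ A ≤ centralizer {k} ⊓ A := fun e => by
      have e' := eq_of_le_of_card_ge e (by rw [f1.1, (h.free (hH hr) hrA (hs r hr)).1])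
      exact hr' (mem_cent'.2 fun z hz => mem_cent.1 (e' ▸ hz).1)
    obtain ⟨a, ha, ha'⟩ := SetLike.not_le_iff_exists.1 this
    exact h.mem_of_cent inf_le_right f1.1 ha.2 ha' (hH hb.1.1) hb.1.2 (mem_cent'.1 hb.2 a ha)
  have j1 := relIndex_le_mul A H (centralizer ((centralizer {k} ⊓ A : Subgroup G) : Set G))
  have j2 := relIndex_le_mul A (H ⊓ centralizer ((centralizer {k} ⊓ A : Subgroup G) : Set G))
    (centralizer ((centralizer {r} ⊓ A : Subgroup G) : Set G))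
  rw [i3, one_mul] at j2
  exact j1.trans (Nat.mul_le_mul (j2.trans i2) i1)

theorem idx (hH : H ≤ normalizer (A : Set G)) (hK : ∀ x ∈ H, x * x ∈ K) : (K ⊔ A).relIndex H ≤ 4 := by
  by_cases hs : ∀ x ∈ H, x * x ∈ A
  · exact (relIndex_anti_left le_sup_right H).trans (h.idx4 hG hH hs)
  push Not at hs
  obtain ⟨x, hx, hx'⟩ := hs
  have h1 := h.idx8 hG hH
  have h2 := two_le_relIndex (K := A) (H := (K ⊔ A) ⊓ H) fun e =>
    hx' (e ⟨mem_sup_left (hK x hx), mul_mem hx hx⟩)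
  have h3 := relIndex_inf_mul_relIndex A (K ⊔ A) H
  rw [(inf_eq_left.2 le_sup_right : A ⊓ (K ⊔ A) = A)] at h3
  nlinarith

theorem sr_norm : SR 16 (normalizer (A : Set G)) := by
  refine sr_of_le fun H hH K hKH hK => ?_
  by_cases e : H ≤ A
  · exact (relIndex_le_card K H).trans ((card_le_of_le e).trans h.card.le)
  obtain ⟨k, hk, hk'⟩ := SetLike.not_le_iff_exists.1 e
  have h1 : K.relIndex (H ⊓ A) ≤ 4 :=
    (comm_bound (A := H ⊓ A) (h := k) (fun a ha => ⟨H.mul_mem (H.mul_mem hk ha.1) (H.inv_mem hk),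
      conj_mem_of_mem_normalizer (hH hk) ha.2⟩) fun a ha => comm_mem hK ha.1 hk).trans
      ((card_le_of_le (inf_le_inf_left _ inf_le_right)).trans (h.cent k (hH hk) hk'))
  exact (split hKH (N := A) fun g hg x hx => conj_mem_of_mem_normalizer (hH (hKH hg)) hx).trans
    (Nat.mul_le_mul h1 (h.idx hG hH hK))

section two

variable (hW2 : ∀ w ∈ W, w * w = 1) (hW : Nat.card W = 16) (hn : W ≤ normalizer (A : Set G)) (hne : W ≠ A)
include hW2 hW hn hne

theorem meet : Nat.card (A ⊓ W : Subgroup G) = 4 ∧ A.relIndex W = 4 ∧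
    ∀ w ∈ W, w ∉ A → centralizer {w} ⊓ A = A ⊓ W := by
  have h1 : ¬ W ≤ A := fun e => hne (eq_of_le_of_card_ge e (by rw [hW, h.card]))
  have h2 : ∀ w ∈ W, A ⊓ W ≤ centralizer {w} ⊓ A := fun w hw a ha =>
    ⟨mem_cent.2 (comm_of_sq hW2 ha.2 hw), ha.1⟩
  obtain ⟨w, hw, hw'⟩ := SetLike.not_le_iff_exists.1 h1
  have h3 := (card_le_of_le (h2 w hw)).trans (h.cent w (hn hw) hw')
  have h4 := h.idx4 hG hn fun x hx => hW2 x hx ▸ one_mem A
  have h5 := card_eq_relIndex A W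
  rw [hW] at h5
  have h6 : Nat.card (A ⊓ W : Subgroup G) = 4 := by nlinarith
  refine ⟨h6, by rw [h6] at h5; omega, fun w hw hw' => ?_⟩
  exact (eq_of_le_of_card_ge (h2 w hw) (h6 ▸ h.cent w (hn hw) hw')).symm

omit hG hW2 hW hne in
theorem dec {x : G} (hx : x ∈ A ⊔ W) : ∃ w ∈ W, ∃ a ∈ A, x = w * a :=
  (mem_sup_of_norm fun _ hw _ ha => conj_mem_of_mem_normalizer (hn hw) ha).1 (sup_comm A W ▸ hx)

theorem inv_T {x : G} (hx : x ∈ A ⊔ W) (h2 : x * x = 1) : x ∈ A ∨ x ∈ W := by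
  obtain ⟨w, hw, a, ha, rfl⟩ := h.dec hn hx
  by_cases e : w ∈ A
  · exact Or.inl (mul_mem e ha)
  refine Or.inr (mul_mem hw (((h.meet hG hW2 hW hn hne).2.2 w hw e).le ⟨mem_cent.2 ?_, ha⟩).2)
  calc a * w = w * (w * a * (w * a)) * a⁻¹ := by rw [← mul_assoc w, ← mul_assoc w, hW2 w hw]; group
    _ = _ := by rw [h2, h.inv ha, mul_one]

theorem cent_T {a c : G} (ha : a ∈ A) (ha' : a ∉ W) (hc : c ∈ A ⊔ W) (e : a * c = c * a) : c ∈ A := by
  obtain ⟨w, hw, b, hb, rfl⟩ := h.dec hn hc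
  by_contra hc'
  refine ha' (((h.meet hG hW2 hW hn hne).2.2 w hw (fun e => hc' (mul_mem e hb))).le
    ⟨mem_cent.2 ?_, ha⟩).2
  calc a * w = a * (w * b) * b⁻¹ := by group
    _ = w * (b * a) * b⁻¹ := by rw [e]; group
    _ = _ := by rw [h.comm hb ha]; group

omit hG hW hne in
theorem T_cent : A ⊔ W ≤ centralizer ((A ⊓ W : Subgroup G) : Set G) :=
  sup_le (fun _ ha => mem_cent'.2 fun _ hz => h.comm hz.1 ha)
    fun _ hw => mem_cent'.2 fun _ hz => comm_of_sq hW2 hz.2 hw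

theorem idx_T : A.relIndex (A ⊔ W) = 4 :=
  le_antisymm (h.bound hG inf_le_left (h.meet hG hW2 hW hn hne).1 (sup_le le_normalizer hn)
    (h.T_cent hW2 hn)) ((h.meet hG hW2 hW hn hne).2.1 ▸ relIndex_mono_right A le_sup_right)

theorem T_idx : (A ⊔ W).relIndex (normalizer (A : Set G)) ≤ 2 := by
  have h1 := relIndex_mul_relIndex A (A ⊔ W) _ le_sup_left (sup_le le_normalizer hn)
  have h2 := h.idx8 hG le_rfl
  rw [h.idx_T hG hW2 hW hn hne] at h1
  omega

theorem mem_T {u : G} (hu : u ∈ normalizer (A : Set G))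
    (hc : u ∈ centralizer ((A ⊓ W : Subgroup G) : Set G)) : u ∈ A ⊔ W := by
  by_contra hu'
  have h1 := relIndex_mul_relIndex A (A ⊔ W) (A ⊔ W ⊔ zpowers u) le_sup_left le_sup_left
  have h2 := h.bound hG inf_le_left (h.meet hG hW2 hW hn hne).1
    (sup_le (sup_le le_normalizer hn) (zpowers_le.2 hu)) (sup_le (h.T_cent hW2 hn) (zpowers_le.2 hc))
  have h3 := two_le_relIndex (K := A ⊔ W) (H := A ⊔ W ⊔ zpowers u) fun e =>
    hu' (e (mem_sup_right (mem_zpowers u)))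
  rw [h.idx_T hG hW2 hW hn hne] at h1
  omega

theorem uniq {V : Subgroup G} (hV2 : ∀ w ∈ V, w * w = 1) (hV : Nat.card V = 16)
    (hn' : V ≤ normalizer (A : Set G)) : V = A ∨ V = W := by
  by_cases e : V = A
  · exact Or.inl e
  have m := h.meet hG hW2 hW hn hne
  have m' := h.meet hG hV2 hV hn' e
  have h1 : ¬ V ⊓ (A ⊔ W) ≤ A := fun e' => by
    have h2 := relIndex_le_mul A V (A ⊔ W)
    have h3 := (relIndex_mono_right _ hn').trans (h.T_idx hG hW2 hW hn hne)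
    rw [relIndex_eq_one.2 e', m'.2.1] at h2
    omega
  obtain ⟨w, hw, hw'⟩ := SetLike.not_le_iff_exists.1 h1
  have h2 : w ∈ W := (h.inv_T hG hW2 hW hn hne hw.2 (hV2 w hw.1)).resolve_left hw'
  have h3 : A ⊓ W = A ⊓ V := (m.2.2 w h2 hw').symm.trans (m'.2.2 w hw.1 hw')
  have h4 : V ≤ A ⊔ W := fun v hv => h.mem_T hG hW2 hW hn hne (hn' hv)
    (h3 ▸ mem_cent'.2 fun z hz => comm_of_sq hV2 hz.2 hv)
  exact (le_or_le fun v hv => h.inv_T hG hW2 hW hn hne (h4 hv) (hV2 v hv)).imp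
    (fun e => eq_of_le_of_card_ge e (by rw [hV, h.card])) fun e => eq_of_le_of_card_ge e (by rw [hV, hW])

end two

section top

variable (h' : FA W) (hB : normalizer (W : Set G) = normalizer (A : Set G)) (hne : W ≠ A)
  (hs : ∀ g, g ∉ normalizer (A : Set G) → Tech.cj g A = W ∧ Tech.cj g W = A)
include h' hB hne hs

omit h h' hG hne in
theorem conj_cases (g : G) : (Tech.cj g A = A ∧ Tech.cj g W = W) ∨ (Tech.cj g A = W ∧ Tech.cj g W = A) := by
  by_cases e : g ∈ normalizer (A : Set G)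
  · exact Or.inl ⟨mem_normalizer_iff_cj.1 e, mem_normalizer_iff_cj.1 (hB ▸ e)⟩
  · exact Or.inr (hs g e)

omit h h' hG hne in
theorem normal_Z : (A ⊓ W).Normal := normalizer_eq_top_iff.1 (eq_top_iff.2 fun g _ => by
  rw [mem_normalizer_iff_cj, cj_inf]
  rcases conj_cases hB hs g with ⟨a, b⟩ | ⟨a, b⟩ <;> rw [a, b]
  exact inf_comm _ _)

omit h h' hG hne hB in
theorem idx_B (H : Subgroup G) : (normalizer (A : Set G)).relIndex H ≤ 2 :=
  relIndex_le_two fun x _ y _ hx hy => by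
    rw [mem_normalizer_iff_cj, cj_mul, (hs y hy).1, ← (hs x hx).1, cj_inv_cj]

omit hG hne hs in
theorem comm_Z {w x : G} (hw : w ∈ W) (hx : x ∈ A ⊔ W) : w * x * w⁻¹ * x⁻¹ ∈ A ⊓ W := by
  have hn : W ≤ normalizer (A : Set G) := hB ▸ le_normalizer
  obtain ⟨v, hv, a, ha, rfl⟩ := h.dec hn hx
  have e : w * (v * a) * w⁻¹ * (v * a)⁻¹ = v * (w * a * w⁻¹ * a⁻¹) * v⁻¹ := by
    rw [← mul_assoc w, h'.comm hw hv]; group
  rw [e]
  refine ⟨conj_mem_of_mem_normalizer (hn hv) (mul_mem (conj_mem_of_mem_normalizer (hn hw) ha) (inv_mem ha)),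
    W.mul_mem (W.mul_mem hv ?_) (W.inv_mem hv)⟩
  simpa [mul_assoc] using W.mul_mem hw
    (conj_mem_of_mem_normalizer (H := W) (hB ▸ le_normalizer ha) (inv_mem hw))

theorem top_eq (e : normalizer (A : Set G) ≤ A ⊔ W) : SR 16 (⊤ : Subgroup G) := by
  have hn : W ≤ normalizer (A : Set G) := hB ▸ le_normalizer
  have hT : normalizer (A : Set G) = A ⊔ W := le_antisymm e (sup_le le_normalizer hn)
  have := normal_Z hB hs
  have m := h.meet hG h'.sq h'.card hn hne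
  refine sr_of_le fun H _ K hKH hK => ?_
  by_cases e1 : H ≤ normalizer (A : Set G)
  · exact h.sr_norm hG H e1 K hK
  obtain ⟨k, hk, hk'⟩ := SetLike.not_le_iff_exists.1 e1
  refine (relIndex_le_mul K H (normalizer (A : Set G))).trans
    (Nat.mul_le_mul (?_ : _ ≤ 8) (idx_B hs H))
  have sw : ∀ a ∈ A, k * a * k⁻¹ ∈ W := fun a ha => (hs k hk').1 ▸ conj_mem_cj.2 ha
  have sw' : ∀ a ∈ W, k * a * k⁻¹ ∈ A := fun a ha => (hs k hk').2 ▸ conj_mem_cj.2 ha
  have back : ∀ a, k * a * k⁻¹ ∈ A ⊓ W → a ∈ A ⊓ W := fun a ha => by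
    simpa [mul_assoc] using this.conj_mem _ ha k⁻¹
  have hk2 : ∀ a ∈ H ⊓ normalizer (A : Set G), k * a * k⁻¹ ∈ H ⊓ normalizer (A : Set G) := fun a ha =>
    ⟨H.mul_mem (H.mul_mem hk ha.1) (H.inv_mem hk), by
      have : k * a * k⁻¹ ∈ Tech.cj k (A ⊔ W) := conj_mem_cj.2 (e ha.2)
      rwa [cj_sup, (hs k hk').1, (hs k hk').2, sup_comm, ← hT] at this⟩
  by_cases e2 : ∀ x ∈ H ⊓ normalizer (A : Set G), x * x = 1
  · refine (relIndex_le_card _ _).trans ((card_le_of_le (?_ : _ ≤ A ⊓ W)).trans (by omega))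
    rcases le_or_le (A := H ⊓ normalizer (A : Set G)) fun x hx =>
      h.inv_T hG h'.sq h'.card hn hne (e hx.2) (e2 x hx) with e3 | e3
    · exact fun x hx => back x ⟨e3 (hk2 x hx), sw x (e3 hx)⟩
    · exact fun x hx => back x ⟨sw' x (e3 hx), e3 (hk2 x hx)⟩
  push Not at e2
  obtain ⟨x, hx, x1⟩ := e2
  have hx2 : x * x ∈ A ⊓ W := by
    obtain ⟨w, hw, a, ha, rfl⟩ := h.dec hn (e hx.2)
    have := h.comm_Z h' hB hw (mem_sup_left ha)
    rwa [h.inv ha, h'.inv hw, mul_assoc] at this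
  rw [← relIndex_congr (K := K ⊓ (H ⊓ normalizer (A : Set G))) fun y hy => ⟨fun e => e.1, fun e => ⟨e, hy⟩⟩]
  refine (split' inf_le_right (A ⊓ W)).trans (Nat.mul_le_mul (?_ : _ ≤ 2) (?_ : _ ≤ 4))
  · have h1 := card_eq_relIndex (K ⊓ (H ⊓ normalizer (A : Set G))) (H ⊓ normalizer (A : Set G) ⊓ (A ⊓ W))
    have h2 := two_le_card (K := K ⊓ (H ⊓ normalizer (A : Set G)) ⊓ (H ⊓ normalizer (A : Set G) ⊓ (A ⊓ W)))
      ⟨⟨hK x hx.1, mul_mem hx hx⟩, mul_mem hx hx, hx2⟩ x1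
    have h3 := card_le_of_le (inf_le_right : H ⊓ normalizer (A : Set G) ⊓ (A ⊓ W) ≤ A ⊓ W)
    nlinarith [m.1]
  · refine (comm_bound_mod (A ⊓ W) (K := K ⊓ (H ⊓ normalizer (A : Set G))) hk2
      fun a ha => ⟨comm_mem hK ha.1 hk, ?_⟩).trans ?_
    · simpa [mul_assoc] using mul_mem ha (hk2 _ (inv_mem ha))
    rw [relIndex_congr (K := A ⊓ W) (M := A)
      (H := H ⊓ normalizer (A : Set G) ⊓ cmod (A ⊓ W) k) fun y hy => ⟨fun e => e.1, fun e => ?_⟩]
    · exact (relIndex_mono_right A (inf_le_left.trans (inf_le_right.trans e))).trans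
        (h.idx_T hG h'.sq h'.card hn hne).le
    have h1 := mem_cmod.1 hy.2
    refine (inv_mem_iff.1 (back _ ⟨?_, sw _ (inv_mem e)⟩))
    simpa [mul_assoc] using A.mul_mem (A.inv_mem e) h1.1

theorem exists_r (e : ¬ normalizer (A : Set G) ≤ A ⊔ W) :
    ∃ r ∈ normalizer (A : Set G), r ∉ A ⊔ W ∧ r * r ∈ A := by
  have hn : W ≤ normalizer (A : Set G) := hB ▸ le_normalizer
  have := normal_Z hB hs
  have m := h.meet hG h'.sq h'.card hn hne
  obtain ⟨r, hr, hr'⟩ := SetLike.not_le_iff_exists.1 e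
  have hrr : r * r ∈ A ⊔ W := mul_mem_of_le_two (h.T_idx hG h'.sq h'.card hn hne) hr hr hr' hr'
  have hrW : ∀ w ∈ W, r * w * r⁻¹ ∈ W := fun w hw => conj_mem_of_mem_normalizer (H := W) (hB ▸ hr) hw
  have hD : ¬ W ≤ W ⊓ cmod (A ⊓ W) r := fun e => by
    obtain ⟨a, ha, ha', h3⟩ := h.exists_a hG inf_le_left m.1 (U := normalizer (A : Set G)) le_rfl
      (le_top.trans (normalizer_eq_top_iff.2 this).ge)
    refine hr' (h.mem_T hG h'.sq h'.card hn hne hr (mem_cent'.2 fun z hz => ?_))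
    obtain ⟨w, hw, rfl⟩ := (h.bound1 inf_le_left m.1 ha ha' hn
      (le_sup_right.trans (h.T_cent h'.sq hn)) fun u hu => h3 u (hn hu)).2 m.2.1.ge z hz
    have e1 := mem_cmod.1 (e hw).2
    have e2 := h3 r hr
    have c1 := fun x hx => mem_cent'.1 (h.T_cent h'.sq hn (x := x) hx) _ (inv_mem e1)
    have c2 := fun x hx => mem_cent'.1 (h.T_cent h'.sq hn (x := x) hx) _ (inv_mem e2)
    have ha1 : a ∈ A ⊔ W := mem_sup_left ha
    have hw1 : w ∈ A ⊔ W := mem_sup_right hw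
    refine (mul_inv_eq_iff_eq_mul.1 ?_).symm
    generalize hp : (w * r * w⁻¹ * r⁻¹)⁻¹ = p at c1
    generalize hq : (a * r * a⁻¹ * r⁻¹)⁻¹ = q at c2
    have e3 : r * w * r⁻¹ = p * w := by rw [← hp]; group
    have e4 : r * a * r⁻¹ = q * a := by rw [← hq]; group
    calc r * (a * w * a⁻¹ * w⁻¹) * r⁻¹
        = r * a * r⁻¹ * (r * w * r⁻¹) * (r * a * r⁻¹)⁻¹ * (r * w * r⁻¹)⁻¹ := by group
      _ = q * (a * (p * (w * a⁻¹ * q⁻¹ * w⁻¹)) * p⁻¹) := by rw [e3, e4]; group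
      _ = q * (a * w * a⁻¹) * q⁻¹ * w⁻¹ := by
        have : p * (w * a⁻¹ * q⁻¹ * w⁻¹) = (w * a⁻¹ * q⁻¹ * w⁻¹) * p := c1 _ (mul_mem (mul_mem (mul_mem hw1
          (inv_mem ha1)) (inv_mem (hq ▸ mem_sup_left (inv_mem e2.1)))) (inv_mem hw1))
        rw [this]; group
      _ = _ := by rw [c2 _ (mul_mem (mul_mem ha1 hw1) (inv_mem ha1))]; group
  obtain ⟨v, hv, hv'⟩ := SetLike.not_le_iff_exists.1 hD
  by_cases h2 : r * r ∈ A
  · exact ⟨r, hr, hr', h2⟩
  obtain ⟨w, hw, a, ha, e⟩ := h.dec hn hrr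
  have hu : v * r * v⁻¹ * r⁻¹ ∈ W := by simpa [mul_assoc] using W.mul_mem hv (hrW _ (inv_mem hv))
  have i2 : (A ⊓ W).relIndex (W ⊓ cmod (A ⊓ W) r) ≤ 2 := by
    have h1 := two_mul_card_le inf_le_left hD
    have h3 := card_eq_relIndex' (K := A ⊓ W) (H := W ⊓ cmod (A ⊓ W) r) fun z hz =>
      ⟨hz.2, mem_cmod.2 (comm_mem_left hz r)⟩
    rw [h'.card] at h1
    rw [m.1] at h3
    omega
  have h4 : v * r * v⁻¹ * r⁻¹ * w ∈ A ⊓ W := by
    refine mul_mem_of_le_two i2 ⟨hu, mem_cmod.2 ?_⟩ ⟨hw, mem_cmod.2 ⟨?_, ?_⟩⟩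
      (fun e => hv' ⟨hv, mem_cmod.2 e⟩) fun e' => h2 (e ▸ mul_mem e'.1 ha)
    · have h5 := h.comm_Z h' hB hv hrr
      have h6 := h'.sq _ (hrW v hv)
      convert h5 using 1
      rw [h'.inv hu, h'.inv hv]
      calc v * r * v * r⁻¹ * r * (v * r * v * r⁻¹) * r⁻¹
          = v * (r * v * r⁻¹ * (r * v * r⁻¹)) * (r * r) * v * (r * r)⁻¹ := by group
        _ = _ := by rw [h6, mul_one]
    · have h5 : w = r * r * a⁻¹ := by rw [e]; group
      have h6 := conj_mem_of_mem_normalizer (mul_mem hr hr)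
        (mul_mem (inv_mem ha) (conj_mem_of_mem_normalizer hr ha))
      have h7 : w * r * w⁻¹ * r⁻¹ = r * r * (a⁻¹ * (r * a * r⁻¹)) * (r * r)⁻¹ := by rw [h5]; group
      exact h7 ▸ h6
    · simpa [mul_assoc] using W.mul_mem hw (hrW _ (inv_mem hw))
  refine ⟨v * r, mul_mem (hn hv) hr, fun e => hr' (by simpa using mul_mem (inv_mem (mem_sup_right hv)) e), ?_⟩
  have h5 : v * r * (v * r) = v * r * v⁻¹ * r⁻¹ * w * a := by rw [mul_assoc _ w, ← e, h'.inv hv]; group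
  exact h5 ▸ A.mul_mem h4.1 ha

theorem top_ne (e : ¬ normalizer (A : Set G) ≤ A ⊔ W) : SR 16 (⊤ : Subgroup G) := by
  have hn : W ≤ normalizer (A : Set G) := hB ▸ le_normalizer
  have m := h.meet hG h'.sq h'.card hn hne
  obtain ⟨r₀, hr₀, hr₀', h2⟩ := h.exists_r hG h' hB hne hs e
  have f := h.free hr₀ (fun e => hr₀' (mem_sup_left e)) h2
  obtain ⟨b, hb, e⟩ := f.2 (r₀ * r₀) ⟨mem_cent.2 (by group), h2⟩
  obtain ⟨r, hr, hr', rr⟩ : ∃ r ∈ normalizer (A : Set G), r ∉ A ⊔ W ∧ r * r = 1 :=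
    ⟨b * r₀, mul_mem (le_normalizer hb) hr₀,
      fun e => hr₀' (by simpa using mul_mem (inv_mem (mem_sup_left hb)) e), by
        calc b * r₀ * (b * r₀) = b * r₀ * b⁻¹ * r₀⁻¹ * (r₀ * r₀) := by rw [h.inv hb]; group
          _ = 1 := by rw [e, h.sq _ h2]⟩
  have hrA : r ∉ A := fun e => hr' (mem_sup_left e)
  have c4 := (h.free hr hrA (rr ▸ one_mem A)).1
  have hc : ∀ a ∈ centralizer {r} ⊓ A, ∀ b ∈ zpowers r, a * b = b * a := fun a ha b hb => by
    rcases (mem_zpowers_two rr).1 hb with rfl | rfl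
    · simp
    · exact mem_cent.1 ha.1
  have : ¬ centralizer {r} ⊓ A ≤ A ⊓ W := fun e => hr' (h.mem_T hG h'.sq h'.card hn hne hr
    (eq_of_le_of_card_ge e (by rw [c4, m.1]) ▸ mem_cent'.2 fun z hz => mem_cent.1 hz.1))
  obtain ⟨a, ha, ha'⟩ := SetLike.not_le_iff_exists.1 this
  have haW : a ∉ W := fun e => ha' ⟨ha.2, e⟩
  refine harada (A := centralizer {r} ⊓ A ⊔ zpowers r) hG (fun x hx => ?_) ?_ fun c hc' => ?_
  · obtain ⟨u, hu, v, hv, rfl⟩ := (mem_sup_of_comm hc).1 hx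
    rcases (mem_zpowers_two rr).1 hv with rfl | rfl
    · simpa using h.sq u hu.2
    · rw [mul_assoc, ← mul_assoc v, ← mem_cent.1 hu.1, mul_assoc, rr, mul_one, h.sq u hu.2]
  · have h1 := card_eq_relIndex' (le_sup_left : centralizer {r} ⊓ A ≤ centralizer {r} ⊓ A ⊔ zpowers r)
    have h3 := two_le_relIndex (K := centralizer {r} ⊓ A) (H := centralizer {r} ⊓ A ⊔ zpowers r) fun e =>
      hrA (e (mem_sup_right (mem_zpowers r))).2
    have h4 : (centralizer {r} ⊓ A).relIndex (centralizer {r} ⊓ A ⊔ zpowers r) ≤ 2 :=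
      ((relIndex_le_of_cover le_sup_right fun x hx => by
        obtain ⟨u, hu, v, hv, rfl⟩ := (mem_sup_of_comm hc).1 hx
        exact ⟨v, hv, by rwa [hc u hu v hv, inv_mul_cancel_left]⟩).trans (relIndex_le_card _ _)).trans
        (card_le_two fun x hx => (mem_zpowers_two rr).1 hx)
    rw [c4] at h1
    omega
  · have e1 := mem_cent'.1 hc' a (mem_sup_left ha)
    have e2 := mem_cent'.1 hc' r (mem_sup_right (mem_zpowers r))
    have hcB : c ∈ normalizer (A : Set G) := by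
      by_contra e3
      have : c * a * c⁻¹ ∈ W := (hs c e3).1 ▸ conj_mem_cj.2 ha.2
      rw [← e1, mul_inv_cancel_right] at this
      exact haW this
    by_cases e3 : c ∈ A ⊔ W
    · exact mem_sup_left ⟨mem_cent.2 e2.symm, h.cent_T hG h'.sq h'.card hn hne ha.2 haW e3 e1⟩
    · have e4 := h.cent_T hG h'.sq h'.card hn hne ha.2 haW
        (mul_mem_of_le_two (h.T_idx hG h'.sq h'.card hn hne) hcB hr e3 hr')
        (by rw [← mul_assoc, e1, mul_assoc, mem_cent.1 ha.1, mul_assoc])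
      have e5 : c * r ∈ centralizer {r} := mem_cent.2 (by rw [← mul_assoc, e2])
      simpa [mul_assoc, rr] using mul_mem (mem_sup_left (mem_inf.2 ⟨e5, e4⟩))
        (mem_sup_right (mem_zpowers r))

end top

theorem sr : SR 16 (⊤ : Subgroup G) := by
  by_cases e : ⊤ ≤ normalizer (A : Set G)
  · exact (h.sr_norm hG).mono e
  obtain ⟨s, -, hs, -, hs'⟩ := exists_norm_sq (hG.to_subgroup ⊤) le_top e
  have hsN := mem_normalizer_of_forall hs'
  have h' := h.cj s
  have nm : ∀ n ∈ normalizer ((normalizer (A : Set G) : Subgroup G) : Set G),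
      normalizer (Tech.cj n A : Set G) = normalizer (A : Set G) := fun n hn => by
    rw [← cj_normalizer, mem_normalizer_iff_cj.1 hn]
  have hB := nm s hsN
  have hn : Tech.cj s A ≤ normalizer (A : Set G) := hB ▸ le_normalizer
  have hne : Tech.cj s A ≠ A := fun e => hs (mem_normalizer_iff_cj.2 e)
  have m := h.meet hG h'.sq h'.card hn hne
  have sw : ∀ n ∈ normalizer ((normalizer (A : Set G) : Subgroup G) : Set G), n ∉ normalizer (A : Set G) →
      Tech.cj n A = Tech.cj s A ∧ Tech.cj n (Tech.cj s A) = A := fun n h1 h2 => by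
    have e1 := (h.uniq hG h'.sq h'.card hn hne (h.cj n).sq (h.cj n).card (nm n h1 ▸ le_normalizer)).resolve_left
      fun e => h2 (mem_normalizer_iff_cj.2 e)
    refine ⟨e1, (h.uniq hG h'.sq h'.card hn hne (h'.cj n).sq (h'.cj n).card ?_).resolve_right fun e =>
      hne (cj_injective n (e.trans e1.symm))⟩
    rw [← cj_mul, ← nm _ (mul_mem h1 hsN)]
    exact le_normalizer
  have top : ⊤ ≤ normalizer ((normalizer (A : Set G) : Subgroup G) : Set G) := by
    by_contra e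
    obtain ⟨t, -, ht, -, ht'⟩ := exists_norm_sq (hG.to_subgroup ⊤) le_top e
    have h1 : Tech.cj t A ≤ normalizer ((normalizer (A : Set G) : Subgroup G) : Set G) :=
      cj_le_iff.2 fun x hx => ht' x (le_normalizer (le_normalizer hx))
    have h2 : ¬ Tech.cj t A ≤ normalizer (A : Set G) := fun e => by
      rcases h.uniq hG h'.sq h'.card hn hne (h.cj t).sq (h.cj t).card e with e | e
      · exact ht (le_normalizer (mem_normalizer_iff_cj.2 e))
      · have : s⁻¹ * t ∈ normalizer (A : Set G) := by rw [mem_normalizer_iff_cj, cj_mul, e, cj_inv_cj]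
        exact ht (by simpa using mul_mem hsN (le_normalizer this))
    obtain ⟨w, hw, hw'⟩ := SetLike.not_le_iff_exists.1 h2
    have i1 : (normalizer (A : Set G)).relIndex (Tech.cj t A) ≤ 2 :=
      relIndex_le_two fun x hx y hy hx' hy' => by
        rw [mem_normalizer_iff_cj, cj_mul, (sw y (h1 hy) hy').1, ← (sw x (h1 hx) hx').1, cj_inv_cj]
    have l1 : (A ⊔ Tech.cj s A) ⊓ (normalizer (A : Set G) ⊓ Tech.cj t A) ≤ A ⊓ Tech.cj s A := fun x hx => by
      have e : w * x * w⁻¹ = x := by rw [(h.cj t).comm hw hx.2.2, mul_inv_cancel_right]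
      rcases h.inv_T hG h'.sq h'.card hn hne hx.1 ((h.cj t).sq x hx.2.2) with e1 | e1
      · exact ⟨e1, (sw w (h1 hw) hw').1 ▸ e ▸ conj_mem_cj.2 e1⟩
      · refine ⟨?_, e1⟩
        have := conj_mem_cj (g := w).2 e1
        rwa [(sw w (h1 hw) hw').2, e] at this
    have c1 := card_eq_relIndex (normalizer (A : Set G)) (Tech.cj t A)
    have c2 := card_eq_relIndex (A ⊔ Tech.cj s A) (normalizer (A : Set G) ⊓ Tech.cj t A)
    have i2 := (relIndex_mono_right _ (inf_le_left : _ ⊓ Tech.cj t A ≤ _)).trans (h.T_idx hG h'.sq h'.card hn hne)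
    rw [(h.cj t).card] at c1
    have c3 : 8 ≤ Nat.card (normalizer (A : Set G) ⊓ Tech.cj t A : Subgroup G) := by nlinarith
    have l2 := eq_of_le_of_card_ge l1 (by rw [m.1]; nlinarith)
    have l3 : normalizer (A : Set G) ⊓ Tech.cj t A ≤ A ⊓ Tech.cj s A := fun x hx =>
      l1 ⟨h.mem_T hG h'.sq h'.card hn hne hx.1 (mem_cent'.2 fun z hz =>
        (h.cj t).comm (l2.ge hz).2.2 hx.2), hx⟩
    have := card_le_of_le l3
    omega
  by_cases e : normalizer (A : Set G) ≤ A ⊔ Tech.cj s A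
  · exact h.top_eq hG h' hB hne (fun g => sw g (top trivial)) e
  · exact h.top_ne hG h' hB hne (fun g => sw g (top trivial)) e

end FA

/-- the ambient form -/
theorem sr_of_e16 {S A : Subgroup G} (hS : IsPGroup 2 S) (hA : A ≤ S) (h : FA A) : SR 16 S := by
  refine sr_iff (k := 4).1 (sr_top_iff.2 (FA.sr (A := A.subgroupOf S) ⟨fun a ha => Subtype.ext (h.sq a ha),
    (Nat.card_congr (subgroupOfEquivOfLe hA).toEquiv).trans h.card, fun s hs hs' => ?_⟩ hS))
  refine le_trans ?_ (h.cent s (mem_normalizer_of_forall fun x hx =>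
    conj_mem_of_mem_normalizer hs (x := ⟨x, hA hx⟩) hx) hs')
  rw [← card_map_of_injective S.subtype_injective]
  refine card_le_of_le ?_
  rintro _ ⟨x, hx, rfl⟩
  exact ⟨mem_cent.2 (congrArg Subtype.val (mem_cent.1 hx.1)), hx.2⟩

end CfsgLib.Fix
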