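import Mathlib
import Cfsg.Agent.Lib.Fix.E16
import Cfsg.Agent.Lib.Tech.Invol

/-!
Two conjugate trivial-intersection subgroups `H`, `H'` with `N(H)/H ≤ S₄` such that `H' ∩ N(H)` contains an
involution: the group has sectional 2-rank at most four.
-/

set_option autoImplicit false
set_option linter.unusedSectionVars false

namespace CfsgLib.Fix

open Subgroup CfsgLib.Sect CfsgLib.Tech

variable {G : Type*} [Group G] [Finite G]

theorem s4_sq : ∀ a b : Equiv.Perm (Fin 4), a * a = b * b → a * a ≠ 1 → a * a * (a * a) = 1 →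
    b = a ∨ b * a = 1 := by decide

set_option maxRecDepth 100000 in
theorem s4_inv : ∀ w b : Equiv.Perm (Fin 4), b * w * b = w → b * b ≠ 1 → b * b * (b * b) = 1 →
    w * w = 1 := by decide

theorem s4_cent : (Finset.univ.filter fun k : Equiv.Perm (Fin 4) =>
    5 ≤ (Finset.univ.filter fun x : Equiv.Perm (Fin 4) => x * k = k * x).card).card = 4 := by decide

theorem s4_ab (T : Set (Equiv.Perm (Fin 4))) (h : ∀ a ∈ T, ∀ b ∈ T, a * b = b * a) : Nat.card T ≤ 4 := by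
  classical
  by_contra h5
  rw [Nat.card_coe_set_eq, Set.ncard_eq_toFinset_card', not_le] at h5
  have : T.toFinset ⊆ Finset.univ.filter fun k : Equiv.Perm (Fin 4) =>
      5 ≤ (Finset.univ.filter fun x : Equiv.Perm (Fin 4) => x * k = k * x).card := fun k hk => by
    refine Finset.mem_filter.2 ⟨Finset.mem_univ _, le_trans h5 (Finset.card_le_card fun x hx => ?_)⟩
    exact Finset.mem_filter.2 ⟨Finset.mem_univ _, h x (Set.mem_toFinset.1 hx) k (Set.mem_toFinset.1 hk)⟩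
  have := Finset.card_le_card this
  rw [s4_cent] at this
  omega

theorem card_sup_two {U : Subgroup G} {w : G} (hw : w * w = 1) (hU : w ∉ U) (hc : ∀ u ∈ U, u * w = w * u) :
    Nat.card (U ⊔ zpowers w : Subgroup G) = 2 * Nat.card U := by
  have hc' : ∀ a ∈ U, ∀ b ∈ zpowers w, a * b = b * a := fun a ha b hb => by
    rcases (mem_zpowers_two hw).1 hb with rfl | rfl
    · simp
    · exact hc a ha
  have h1 := card_eq_relIndex' (le_sup_left : U ≤ U ⊔ zpowers w)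
  have h3 := two_le_relIndex (K := U) (H := U ⊔ zpowers w) fun e => hU (e (mem_sup_right (mem_zpowers w)))
  have h4 : U.relIndex (U ⊔ zpowers w) ≤ 2 :=
    ((relIndex_le_of_cover le_sup_right fun x hx => by
      obtain ⟨u, hu, v, hv, rfl⟩ := (mem_sup_of_comm hc').1 hx
      exact ⟨v, hv, by rwa [hc' u hu v hv, inv_mul_cancel_left]⟩).trans (relIndex_le_card _ _)).trans
      (card_le_two fun x hx => (mem_zpowers_two hw).1 hx)
  rw [h1, le_antisymm h4 h3, mul_comm]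

theorem comm_sup {U : Subgroup G} {w : G} (hU : ∀ a ∈ U, ∀ b ∈ U, a * b = b * a) (hc : ∀ u ∈ U, u * w = w * u) :
    ∀ a ∈ U ⊔ zpowers w, ∀ b ∈ U ⊔ zpowers w, a * b = b * a := by
  have h1 : U ⊔ zpowers w ≤ centralizer (U : Set G) ⊓ centralizer {w} :=
    sup_le (fun a ha => ⟨mem_cent'.2 fun b hb => hU b hb a ha, mem_cent.2 (hc a ha)⟩)
      (zpowers_le.2 ⟨mem_cent'.2 hc, mem_cent.2 rfl⟩)
  intro a ha b hb
  have : U ⊔ zpowers w ≤ centralizer {b} :=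
    sup_le (fun a ha => mem_cent.2 (mem_cent'.1 (h1 hb).1 a ha)) (zpowers_le.2 (mem_cent.2 (mem_cent.1 (h1 hb).2).symm))
  exact mem_cent.1 (this ha)

theorem sq_sup {U : Subgroup G} {w : G} (hw : w * w = 1) (hU : ∀ a ∈ U, a * a = 1) (hc : ∀ u ∈ U, u * w = w * u) :
    ∀ a ∈ U ⊔ zpowers w, a * a = 1 := fun x hx => by
  have hc' : ∀ a ∈ U, ∀ b ∈ zpowers w, a * b = b * a := fun a ha b hb => by
    rcases (mem_zpowers_two hw).1 hb with rfl | rfl
    · simp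
    · exact hc a ha
  obtain ⟨u, hu, v, hv, rfl⟩ := (mem_sup_of_comm hc').1 hx
  rcases (mem_zpowers_two hw).1 hv with rfl | rfl
  · simpa using hU u hu
  · rw [mul_assoc, ← mul_assoc v, ← hc u hu, mul_assoc, hw, mul_one, hU u hu]

theorem pg_of_sq {U : Subgroup G} (hU : ∀ a ∈ U, a * a = 1) : IsPGroup 2 U :=
  isPGroup_iff_mem.2 fun x hx => ⟨1, by rw [pow_one, pow_two, hU x hx]⟩

/-- an elementary abelian subgroup of order eight that is maximal abelian -/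
theorem sr_of_e8 {S E : Subgroup G} (hS : IsPGroup 2 S) (hE : E ≤ S) (h2 : ∀ e ∈ E, e * e = 1)
    (h8 : Nat.card E = 8) (hc : ∀ B ≤ S, E ≤ B → (∀ a ∈ B, ∀ b ∈ B, a * b = b * a) → Nat.card B ≤ 8) :
    SR 16 S := by
  refine harada_in hS hE h2 h8 fun c hcS h => ?_
  exact (eq_of_le_of_card_ge (le_sup_left : E ≤ E ⊔ zpowers c) (h8 ▸ hc _ (sup_le hE (zpowers_le.2 hcS))
    le_sup_left (comm_sup (fun a ha b hb => comm_of_sq h2 ha hb) h))).ge (mem_sup_right (mem_zpowers c))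

/-- an involution such that the abelian subgroups containing it have order at most eight -/
theorem sr_of_inv {S : Subgroup G} (hS : IsPGroup 2 S) {t : G} (ht : t ∈ S) (h2 : t * t = 1)
    (hc : ∀ B ≤ S, t ∈ B → (∀ a ∈ B, ∀ b ∈ B, a * b = b * a) → Nat.card B ≤ 8) : SR 16 S := by
  by_cases e : ∃ E ≤ S, t ∈ E ∧ (∀ e ∈ E, e * e = 1) ∧ Nat.card E = 8
  · obtain ⟨E, h1, h3, h4, h5⟩ := e
    exact sr_of_e8 hS h1 h4 h5 fun B hB hE => hc B hB (hE h3)
  push Not at e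
  have key : ∀ E ≤ S, t ∈ E → (∀ e ∈ E, e * e = 1) → Nat.card E ≤ 4 := fun E h1 h3 h4 =>
    card_le_pow (hS.to_le h1) 2 (lt_of_le_of_ne (hc E h1 h3 fun a ha b hb => comm_of_sq h4 ha hb) (e E h1 h3 h4))
  refine macw_in hS fun V hV hn hV2 => ?_
  by_cases e2 : t ∈ V
  · exact key V hV e2 hV2
  have h1 := key (centralizer {t} ⊓ V ⊔ zpowers t) (sup_le (inf_le_right.trans hV) (zpowers_le.2 ht))
    (mem_sup_right (mem_zpowers t)) (sq_sup h2 (fun a ha => hV2 a ha.2) fun u hu => mem_cent.1 hu.1)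
  rw [card_sup_two (U := centralizer {t} ⊓ V) h2 (fun e => e2 e.2) fun u hu => mem_cent.1 hu.1] at h1
  have h3 := comm_bound (A := V) (K := centralizer {t}) (h := t)
    (fun a ha => conj_mem_of_mem_normalizer (hn ht) ha) fun a ha => mem_cent.2 (by
      have h4 := comm_of_sq hV2 ha (conj_mem_of_mem_normalizer (hn ht) ha)
      rw [inv_eq_of_mul_eq_one_right (hV2 a ha)]
      calc a * t * a * t⁻¹ * t = a * (t * a * t⁻¹) * t := by group
        _ = t * a * t⁻¹ * a * (t * t) * t⁻¹ := by rw [h4]; group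
        _ = t * a * (t * t) * t⁻¹ * a * t⁻¹ := by rw [h2]; group
        _ = _ := by group)
  have h4 := card_eq_relIndex (centralizer {t}) V
  nlinarith

/-- `M` normalises `H`, contains the centralisers of its non-trivial elements, and `M / H` embeds in `S₄` -/
structure T4 (H M : Subgroup G) : Prop where
  le : H ≤ M
  norm : M ≤ normalizer (H : Set G)
  cent : ∀ h ∈ H, h ≠ 1 → ∀ c, h * c = c * h → c ∈ M
  hom : ∃ φ : G → Equiv.Perm (Fin 4), (∀ x ∈ M, ∀ y ∈ M, φ (x * y) = φ x * φ y) ∧ ∀ x ∈ M, φ x = 1 ↔ x ∈ H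

theorem T4.ab {H M B : Subgroup G} (h : T4 H M) (hB : B ≤ M) (hc : ∀ a ∈ B, ∀ b ∈ B, a * b = b * a) :
    H.relIndex B ≤ 4 := by
  obtain ⟨φ, h1, h2⟩ := h.hom
  refine (index_le B H φ (φ '' B) (fun a ha => ⟨a, ha, rfl⟩) fun a ha b hb e => ?_).trans (s4_ab _ ?_)
  · have hm := hB (mul_mem (inv_mem ha) hb)
    refine (h2 _ hm).1 (mul_left_cancel (a := φ a) ?_)
    rw [← h1 _ (hB ha) _ hm, mul_one, e, mul_inv_cancel_left]
  · rintro _ ⟨a, ha, rfl⟩ _ ⟨b, hb, rfl⟩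
    rw [← h1 _ (hB ha) _ (hB hb), ← h1 _ (hB hb) _ (hB ha), hc a ha b hb]

/-- two conjugate members of the family -/
structure P4 (H M H' M' : Subgroup G) : Prop where
  t : T4 H M
  t' : T4 H' M'
  disj : ∀ x ∈ H, x ∈ H' → x = 1
  card : Nat.card (H' ⊓ M : Subgroup G) ≤ 4
  card' : Nat.card (H ⊓ M' : Subgroup G) ≤ 4
  reg : Nat.card (H' ⊓ M : Subgroup G) = 4 → ∀ c ∈ M, (∀ y ∈ H' ⊓ M, y * c = c * y) →
    ∃ y ∈ H' ⊓ M, y⁻¹ * c ∈ H
  reg' : Nat.card (H ⊓ M' : Subgroup G) = 4 → ∀ c ∈ M', (∀ y ∈ H ⊓ M', y * c = c * y) →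
    ∃ y ∈ H ⊓ M', y⁻¹ * c ∈ H'
  conj : ∃ g, H' = cj g H

namespace P4

variable {H M H' M' : Subgroup G} (h : P4 H M H' M')
include h

theorem symm : P4 H' M' H M :=
  ⟨h.t', h.t, fun x a b => h.disj x b a, h.card', h.card, h.reg', h.reg,
    let ⟨g, e⟩ := h.conj; ⟨g⁻¹, by rw [e, cj_inv_cj]⟩⟩

theorem comm : ∀ x ∈ H ⊓ M', ∀ y ∈ H' ⊓ M, x * y = y * x := fun x hx y hy => by
  rw [← mul_inv_eq_iff_eq_mul, ← mul_inv_eq_one]
  refine h.disj _ ?_ (mul_mem (conj_mem_of_mem_normalizer (h.t'.norm hx.2) hy.1) (inv_mem hy.1))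
  simpa [mul_assoc] using H.mul_mem hx.1 (conj_mem_of_mem_normalizer (h.t.norm hy.2) (H.inv_mem hx.1))

theorem mem_X {y c : G} (hy : y ∈ H') (y1 : y ≠ 1) (hc : c ∈ H) (e : y * c = c * y) : c ∈ H ⊓ M' :=
  ⟨hc, h.t'.cent y hy y1 c e⟩

theorem dec {a : G} : a ∈ H ⊓ M' ⊔ H' ⊓ M ↔ ∃ x ∈ H ⊓ M', ∃ y ∈ H' ⊓ M, a = x * y := mem_sup_of_comm h.comm

theorem A_le : H ⊓ M' ⊔ H' ⊓ M ≤ M := sup_le (inf_le_left.trans h.t.le) inf_le_right

theorem A_inf {a : G} (ha : a ∈ H ⊓ M' ⊔ H' ⊓ M) (hH : a ∈ H) : a ∈ H ⊓ M' := by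
  obtain ⟨x, hx, y, hy, rfl⟩ := h.dec.1 ha
  rwa [h.disj y (by simpa using H.mul_mem (H.inv_mem hx.1) hH) hy.1, mul_one]

theorem exists_inv {u : G} (hu : u ∈ H' ⊓ M) (h2 : orderOf u = 2) : ∃ t ∈ H ⊓ M', orderOf t = 2 := by
  obtain ⟨R, hR, hle⟩ := exists_isSylowIn_ge (p := 2) (isPGroup_two_zpowers (mul_self_of_orderOf_two h2))
    (zpowers_le.2 hu.2)
  have hQ := hR.inf_of_le_normalizer h.t.norm
  obtain ⟨g, e⟩ := h.conj
  have hv : g⁻¹ * u * g ∈ H := mem_cj.1 (e ▸ hu.1)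
  have hv2 : orderOf (g⁻¹ * u * g) = 2 := by simpa using (orderOf_conj_eq g⁻¹ u).trans h2
  obtain ⟨k, -, hk⟩ := hQ.exists_conj_mem (x := g⁻¹ * u * g) ⟨h.t.le hv, hv⟩
    (isPGroup_two_zpowers (mul_self_of_orderOf_two hv2))
  obtain ⟨z, hz, z2, hc⟩ := exists_mem_center_of_normalized (N := R ⊓ H) hR.pgroup inf_le_left
    (fun r hr => mem_normalizer_of_forall fun x hx => ⟨R.mul_mem (R.mul_mem hr hx.1) (R.inv_mem hr),
      conj_mem_of_mem_normalizer (h.t.norm (hR.le hr)) hx.2⟩) fun e => by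
      rw [e, mem_bot] at hk
      exact ne_one_of_orderOf_two ((orderOf_conj_eq k _).trans hv2) hk
  exact ⟨z, h.mem_X hu.1 (ne_one_of_orderOf_two h2) hz.2 (hc u (hle (mem_zpowers u))), z2⟩

theorem grow (hX : IsPGroup 2 (H ⊓ M' : Subgroup G)) (hY : IsPGroup 2 (H' ⊓ M : Subgroup G))
    (hs : ¬ IsSylowIn 2 (H ⊓ M') H) : ∃ x ∈ H, x ∉ M' ∧ (∀ y ∈ H ⊓ M', x * y * x⁻¹ ∈ H ⊓ M') ∧
      ∀ y ∈ H' ⊓ M, x * y * x⁻¹ * y⁻¹ ∈ H ⊓ M' := by
  have hA : IsPGroup 2 (H ⊓ M' ⊔ H' ⊓ M : Subgroup G) := hX.to_sup_of_normal_left' hY fun y hy =>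
    mem_normalizer_of_forall fun x hx => by rwa [← h.comm x hx y hy, mul_inv_cancel_right]
  obtain ⟨R, hR, hle⟩ := exists_isSylowIn_ge hA h.A_le
  have hQ := hR.inf_of_le_normalizer h.t.norm
  rw [inf_eq_right.2 h.t.le] at hQ
  have hn : R ≤ normalizer ((R ⊓ H : Subgroup G) : Set G) := fun r hr =>
    mem_normalizer_of_forall fun x hx => ⟨R.mul_mem (R.mul_mem hr hx.1) (R.inv_mem hr),
      conj_mem_of_mem_normalizer (h.t.norm (hR.le hr)) hx.2⟩
  have hlt : H ⊓ M' ⊔ H' ⊓ M < H ⊓ M' ⊔ H' ⊓ M ⊔ R ⊓ H := lt_of_le_of_ne le_sup_left fun e =>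
    hs (hQ.of_card_le hX inf_le_left (card_le_of_le fun x hx => h.A_inf (e ▸ mem_sup_right hx) hx.2))
  obtain ⟨x, h1, h2, h3⟩ := exists_mem_normalizer_of_lt (hR.pgroup.to_le (sup_le hle inf_le_left)) hlt
  obtain ⟨a, ha, q, hq, rfl⟩ := (mem_sup_of_norm fun a ha b hb =>
    conj_mem_of_mem_normalizer (hn (hle ha)) hb).1 h1
  have h4 : q ∈ normalizer ((H ⊓ M' ⊔ H' ⊓ M : Subgroup G) : Set G) := by
    simpa using mul_mem (inv_mem (le_normalizer ha)) h3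
  refine ⟨q, hq.2, fun e => h2 (mul_mem ha (mem_sup_left ⟨hq.2, e⟩)), fun y hy => h.A_inf
    (conj_mem_of_mem_normalizer h4 (mem_sup_left hy)) (H.mul_mem (H.mul_mem hq.2 hy.1) (H.inv_mem hq.2)),
    fun y hy => h.A_inf (mul_mem (conj_mem_of_mem_normalizer h4 (mem_sup_right hy))
      (inv_mem (mem_sup_right hy))) ?_⟩
  simpa [mul_assoc] using H.mul_mem hq.2 (conj_mem_of_mem_normalizer (h.t.norm hy.2) (H.inv_mem hq.2))

theorem case_one {t : G} (ht : t ∈ H ⊓ M') (h2 : orderOf t = 2) (hs : IsSylowIn 2 (H ⊓ M') H)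
    (hc : Nat.card (H ⊓ M' : Subgroup G) = 2) : SR 16 (⊤ : Subgroup G) := by
  obtain ⟨S, hS⟩ := (isPGroup_two_zpowers (mul_self_of_orderOf_two h2)).exists_le_sylow
  refine sr_of_sylow S (sr_of_inv S.isPGroup' (hS (mem_zpowers t)) (mul_self_of_orderOf_two h2)
    fun B hB htB hab => ?_)
  have h1 := h.t.ab (fun b hb => h.t.cent t ht.1 (ne_one_of_orderOf_two h2) b (hab t htB b hb)) hab
  have h3 := hs.card_le (S.isPGroup'.to_le (inf_le_right.trans hB : H ⊓ B ≤ S)) inf_le_left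
  rw [card_eq_relIndex H B]
  nlinarith

theorem card_le_of_not (hX : IsPGroup 2 (H ⊓ M' : Subgroup G)) (hY : IsPGroup 2 (H' ⊓ M : Subgroup G))
    (hs : ¬ IsSylowIn 2 (H ⊓ M') H) :
    Nat.card (H' ⊓ M : Subgroup G) ≤ Nat.card (H ⊓ M' : Subgroup G) := by
  obtain ⟨x, h1, h2, -, h4⟩ := h.grow hX hY hs
  have := index_le (H' ⊓ M) ⊥ (fun y => x * y * x⁻¹ * y⁻¹) ((H ⊓ M' : Subgroup G) : Set G) h4
    fun a ha b hb e => by
      by_contra e1
      refine h2 (h.t'.cent _ (mul_mem (inv_mem ha) hb).1 e1 x ?_)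
      calc a⁻¹ * b * x = a⁻¹ * (x * b * x⁻¹ * b⁻¹)⁻¹ * x * b := by group
        _ = _ := by rw [← e]; group
  rwa [relIndex_bot_left] at this

theorem case_two {t u : G} (ht : t ∈ H ⊓ M') (t2 : orderOf t = 2) (hu : u ∈ H' ⊓ M) (u2 : orderOf u = 2)
    (hc : Nat.card (H ⊓ M' : Subgroup G) = 2) (hc' : Nat.card (H' ⊓ M : Subgroup G) = 2)
    (hs : ¬ IsSylowIn 2 (H ⊓ M') H) (hs' : ¬ IsSylowIn 2 (H' ⊓ M) H') : SR 16 (⊤ : Subgroup G) := by
  have hX : IsPGroup 2 (H ⊓ M' : Subgroup G) := IsPGroup.of_card (n := 1) hc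
  have hY : IsPGroup 2 (H' ⊓ M : Subgroup G) := IsPGroup.of_card (n := 1) hc'
  have t1 := ne_one_of_orderOf_two t2
  have u1 := ne_one_of_orderOf_two u2
  have tt := mul_self_of_orderOf_two t2
  have uu := mul_self_of_orderOf_two u2
  have tu := h.comm t ht u hu
  obtain ⟨x, x1, x2, x3, x4⟩ := h.grow hX hY hs
  obtain ⟨y, y1, y2, y3, y4⟩ := h.symm.grow hY hX hs'
  have xt : x * t * x⁻¹ = t := (two_cases hc.le ht t1 (x3 t ht)).resolve_left (by simpa using t1)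
  have yu : y * u * y⁻¹ = u := (two_cases hc'.le hu u1 (y3 u hu)).resolve_left (by simpa using u1)
  have xu : x * u * x⁻¹ = t * u := mul_inv_eq_iff_eq_mul.1 ((two_cases hc.le ht t1 (x4 u hu)).resolve_left
    fun e => x2 (h.t'.cent u hu.1 u1 x (mul_inv_eq_iff_eq_mul.1 (mul_inv_eq_one.1 e)).symm))
  have yt : y * t * y⁻¹ = u * t := mul_inv_eq_iff_eq_mul.1 ((two_cases hc'.le hu u1 (y4 t ht)).resolve_left
    fun e => y2 (h.t.cent t ht.1 t1 y (mul_inv_eq_iff_eq_mul.1 (mul_inv_eq_one.1 e)).symm))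
  have hcu : ∀ a ∈ zpowers t, a * u = u * a := fun a ha => h.comm a (zpowers_le.2 ht ha) u hu
  have huz : u ∉ zpowers t := fun e => u1 (h.disj u (zpowers_le.2 ht e).1 hu.1)
  have hU2 := sq_sup uu (fun a ha => by rcases (mem_zpowers_two tt).1 ha with rfl | rfl <;> simp [tt]) hcu
  have hU4 := card_sup_two uu huz hcu
  rw [card_zpowers_two tt t1] at hU4
  have htU : t ∈ zpowers t ⊔ zpowers u := mem_sup_left (mem_zpowers t)
  have huU : u ∈ zpowers t ⊔ zpowers u := mem_sup_right (mem_zpowers u)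
  obtain ⟨S, hS⟩ := (pg_of_sq hU2).exists_le_sylow
  refine sr_of_sylow S ?_
  have ab : ∀ B : Subgroup G, zpowers t ⊔ zpowers u ≤ B → (∀ a ∈ B, ∀ b ∈ B, a * b = b * a) →
      Nat.card B ≤ 8 := fun B hB hab => by
    have h1 := h.t.ab (fun b hb => h.t.cent t ht.1 t1 b (hab t (hB htU) b hb)) hab
    have h3 := card_le_of_le (fun b hb => h.mem_X hu.1 u1 hb.1 (hab u (hB huU) b hb.2) : H ⊓ B ≤ H ⊓ M')
    rw [card_eq_relIndex H B]
    nlinarith
  by_cases e : ∀ c ∈ (S : Subgroup G), (∀ a ∈ zpowers t ⊔ zpowers u, a * c = c * a) → c ∈ zpowers t ⊔ zpowers u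
  · refine (sr_iff (k := 2).1 (sr_top_iff.2 (mcp_of_self (A := (zpowers t ⊔ zpowers u).subgroupOf S) S.isPGroup'
      ((Nat.card_congr (subgroupOfEquivOfLe hS).toEquiv).trans hU4) fun c hc =>
        e c c.2 fun a ha => congrArg Subtype.val (hc ⟨a, hS ha⟩ ha)).1)).le (by norm_num)
  push Not at e
  obtain ⟨c, hcS, c1, c2⟩ := e
  have hB := comm_sup (fun a ha b hb => comm_of_sq hU2 ha hb) c1
  by_cases cc : c * c = 1
  · exact sr_of_e8 S.isPGroup' (sup_le hS (zpowers_le.2 hcS)) (sq_sup cc hU2 c1)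
      (by rw [card_sup_two cc c2 c1, hU4]) fun B _ hE => ab B (le_sup_left.trans hE)
  exfalso
  have c3 : c * c ∈ zpowers t ⊔ zpowers u := by
    have h1 := ab _ le_sup_left hB
    rw [card_eq_relIndex' (le_sup_left : _ ≤ zpowers t ⊔ zpowers u ⊔ zpowers c), hU4] at h1
    exact mul_mem_of_le_two (H := zpowers t ⊔ zpowers u ⊔ zpowers c) (by omega) (mem_sup_right (mem_zpowers c)) (mem_sup_right (mem_zpowers c)) c2 c2
  obtain ⟨φ, f1, f2⟩ := h.t.hom
  have htM := h.t.le ht.1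
  have fin : ∀ c d : G, t * c = c * t → u * c = c * u → t * d = d * t → u * d = d * u → c * c = u →
      d * d = t * u → False := fun c d a1 a2 a3 a4 a5 a6 => by
    have hcM := h.t.cent t ht.1 t1 c a1
    have hdM := h.t.cent t ht.1 t1 d a3
    have e1 : φ c * φ c = φ u := by rw [← f1 c hcM c hcM, a5]
    have e2 : φ d * φ d = φ u := by rw [← f1 d hdM d hdM, a6, f1 t htM u hu.2, (f2 t htM).2 ht.1, one_mul]
    have key : ∀ k, k ∈ M → t * k = k * t → u * k = k * u → k * k = u → φ (d * k) = 1 → False :=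
      fun k b1 b2 b3 b4 b5 => by
        have b6 := h.mem_X hu.1 u1 ((f2 _ (mul_mem hdM b1)).1 b5) (by rw [← mul_assoc, a4, mul_assoc, b3, mul_assoc])
        have b7 : d * d = k⁻¹ * k⁻¹ := by
          rcases two_cases hc.le ht t1 b6 with e | e
          · rw [eq_inv_of_mul_eq_one_left e]
          · calc d * d = (d * k) * k⁻¹ * (d * k) * k⁻¹ := by group
              _ = t * k⁻¹ * (t * k) * k⁻¹ * k⁻¹ := by rw [e]; group
              _ = (t * t) * k⁻¹ * k⁻¹ := by rw [b2]; group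
              _ = _ := by rw [tt, one_mul]
        rw [a6, ← mul_inv_rev, b4, inv_eq_of_mul_eq_one_right uu] at b7
        exact t1 (by simpa using b7)
    rcases s4_sq (φ c) (φ d) (e1.trans e2.symm) (e1 ▸ fun e => u1 (h.disj u ((f2 u hu.2).1 e) hu.1))
      (by rw [e1, ← f1 u hu.2 u hu.2, uu, (f2 1 (one_mem _)).2 (one_mem _)]) with e | e
    · refine key c⁻¹ (inv_mem hcM) (Commute.inv_right a1) (Commute.inv_right a2)
        (by rw [← mul_inv_rev, a5, inv_eq_of_mul_eq_one_right uu]) ?_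
      rw [f1 d hdM _ (inv_mem hcM), e, ← f1 c hcM _ (inv_mem hcM), mul_inv_cancel,
        (f2 1 (one_mem _)).2 (one_mem _)]
    · exact key c hcM a1 a2 a5 (by rw [f1 d hdM c hcM, e])
  have cj1 : ∀ g c a : G, g * a * g⁻¹ * (g * c * g⁻¹) = g * (a * c) * g⁻¹ := fun g c a => by group
  have xtu : x * (t * u) * x⁻¹ = u := by rw [← cj1, xt, xu, ← mul_assoc, tt, one_mul]
  have ytu : y * (t * u) * y⁻¹ = t := by rw [← cj1, yt, yu, ← tu, mul_assoc, uu, mul_one]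
  have cx : ∀ c, t * c = c * t → u * c = c * u →
      t * (x * c * x⁻¹) = x * c * x⁻¹ * t ∧ u * (x * c * x⁻¹) = x * c * x⁻¹ * u := fun c a1 a2 =>
    ⟨by rw [← xt, cj1, cj1, a1], by rw [← xtu, cj1, cj1, mul_assoc t, a2, ← mul_assoc t, a1, mul_assoc c]⟩
  have c4 := c1 t htU
  have c5 := c1 u huU
  have fin2 : ∀ d, t * d = d * t → u * d = d * u → d * d = t * u → False := fun d a1 a2 a3 =>
    fin _ d (cx d a1 a2).1 (cx d a1 a2).2 a1 a2 (by rw [cj1, a3, xtu]) a3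
  rcases four_cases hU4.le htU huU tt t1 u1 (fun e => huz (e ▸ mem_zpowers _)) c3 with e | e | e | e
  · exact cc e
  · exact fin2 (y * c * y⁻¹)
      (by rw [← ytu, cj1, cj1, mul_assoc t, c5, ← mul_assoc t, c4, mul_assoc c])
      (by rw [← yu, cj1, cj1, c5]) (by rw [cj1, e, yt, tu])
  · exact fin2 _ (cx c c4 c5).1 (cx c c4 c5).2 (by rw [cj1, e, xu])
  · exact fin2 c c4 c5 e

end P4

end CfsgLib.Fix
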