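import Mathlib
import Cfsg.Agent.Lib.Fix.T4a

/-!
Two conjugate trivial-intersection subgroups `H`, `H'` with `N(H)/H ≤ S₄` such that `H' ∩ N(H)` contains an
involution: the group has sectional 2-rank at most four.
-/

set_option autoImplicit false
set_option linter.unusedSectionVars false

namespace CfsgLib.Fix

open Subgroup CfsgLib.Sect CfsgLib.Tech

variable {G : Type*} [Group G] [Finite G]

namespace P4

variable {H M H' M' : Subgroup G} (h : P4 H M H' M')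
include h

section four

variable (hc : Nat.card (H ⊓ M' : Subgroup G) = 4) (hc' : Nat.card (H' ⊓ M : Subgroup G) = 4)

include hc' in
theorem mem_A {c : G} (h1 : c ∈ M) (h2 : c ∈ M') (h3 : ∀ y ∈ H' ⊓ M, y * c = c * y) :
    c ∈ H ⊓ M' ⊔ H' ⊓ M := by
  obtain ⟨y, hy, e⟩ := h.reg hc' c h1 h3
  simpa using mul_mem (mem_sup_right hy) (mem_sup_left (mem_inf.2 ⟨e, mul_mem (inv_mem (h.t'.le hy.1)) h2⟩))

omit h in
theorem conj_X {H M' : Subgroup G} {s : G} (h1 : s ∈ normalizer (H : Set G)) (h2 : s ∈ M') {x : G}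
    (hx : x ∈ H ⊓ M') : s * x * s⁻¹ ∈ H ⊓ M' :=
  ⟨conj_mem_of_mem_normalizer h1 hx.1, M'.mul_mem (M'.mul_mem h2 hx.2) (M'.inv_mem h2)⟩

include hc hc'

theorem card_A : Nat.card (H ⊓ M' ⊔ H' ⊓ M : Subgroup G) = 16 := by
  have h1 := card_mul_le_of_disj (le_sup_left : H ⊓ M' ≤ H ⊓ M' ⊔ H' ⊓ M) le_sup_right
    fun x a b => h.disj x b.1 a.1
  have h2 := card_eq_relIndex' (le_sup_left : H ⊓ M' ≤ H ⊓ M' ⊔ H' ⊓ M)
  have h3 : (H ⊓ M').relIndex (H ⊓ M' ⊔ H' ⊓ M) ≤ 4 :=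
    ((relIndex_le_of_cover le_sup_right fun a ha => by
      obtain ⟨x, hx, y, hy, rfl⟩ := h.dec.1 ha
      exact ⟨y, hy, by rwa [h.comm x hx y hy, inv_mul_cancel_left]⟩).trans (relIndex_le_card _ _)).trans hc'.le
  rw [hc] at h1 h2
  rw [hc'] at h1
  omega

theorem cent_of_notMem {s : G} (hs : s ∉ M) :
    Nat.card (centralizer {s} ⊓ (H ⊓ M' ⊔ H' ⊓ M) : Subgroup G) ≤ 4 := by
  have h1 := card_mul_le_of_disj (inf_le_right : centralizer {s} ⊓ _ ≤ H ⊓ M' ⊔ H' ⊓ M) le_sup_left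
    fun x a b => by_contra fun e => hs (h.t.cent x a.1 e s (mem_cent.1 b.1))
  rw [hc, h.card_A hc hc'] at h1
  omega

theorem case_e16 (hX : ∀ x ∈ H ⊓ M', x * x = 1) (hY : ∀ x ∈ H' ⊓ M, x * x = 1) : SR 16 (⊤ : Subgroup G) := by
  have hA : ∀ a ∈ H ⊓ M' ⊔ H' ⊓ M, a * a = 1 := fun a ha => by
    obtain ⟨x, hx, y, hy, rfl⟩ := h.dec.1 ha
    rw [mul_assoc, ← mul_assoc y, ← h.comm x hx y hy, mul_assoc, hY y hy, mul_one, hX x hx]
  obtain ⟨S, hS⟩ := (pg_of_sq hA).exists_le_sylow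
  refine sr_of_sylow S (sr_of_e16 S.isPGroup' hS ⟨hA, h.card_A hc hc', fun s _ hs => ?_⟩)
  by_cases e1 : s ∈ M
  swap
  · exact h.cent_of_notMem hc hc' e1
  by_cases e2 : s ∈ M'
  swap
  · rw [sup_comm]; exact h.symm.cent_of_notMem hc' hc e2
  have h1 := two_mul_card_le (inf_le_right : centralizer {s} ⊓ _ ≤ H' ⊓ M) fun e =>
    hs (h.mem_A hc' e1 e2 fun y hy => mem_cent.1 (e hy).1)
  have h2 := two_mul_card_le (inf_le_right : centralizer {s} ⊓ _ ≤ H ⊓ M') fun e =>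
    hs (by rw [sup_comm]; exact h.symm.mem_A hc e2 e1 fun y hy => mem_cent.1 (e hy).1)
  have h3 := card_le_of_le (le_inf (inf_le_right.trans inf_le_left) inf_le_left :
    H ⊓ M' ⊓ (centralizer {s} ⊓ (H ⊓ M' ⊔ H' ⊓ M)) ≤ centralizer {s} ⊓ (H ⊓ M'))
  have h4 : (H ⊓ M').relIndex (centralizer {s} ⊓ (H ⊓ M' ⊔ H' ⊓ M)) ≤
      Nat.card (centralizer {s} ⊓ (H' ⊓ M) : Subgroup G) :=
    (relIndex_le_of_cover (inf_le_inf_left _ le_sup_right) fun a ha => by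
      obtain ⟨x, hx, y, hy, rfl⟩ := h.dec.1 ha.2
      refine ⟨y, ⟨mem_cent.2 ?_, hy⟩, by rwa [h.comm x hx y hy, inv_mul_cancel_left]⟩
      have e3 : s * y * s⁻¹ * y⁻¹ = s * x⁻¹ * s⁻¹ * x := by
        have e0 : x * y * s = s * (x * y) := mem_cent.1 ha.1
        calc s * y * s⁻¹ * y⁻¹ = s * x⁻¹ * s⁻¹ * (s * (x * y)) * s⁻¹ * y⁻¹ := by group
          _ = _ := by rw [← e0]; group
      have e4 := h.disj (s * y * s⁻¹ * y⁻¹)
        (by rw [e3]; exact H.mul_mem (conj_X (h.t.norm e1) e2 (inv_mem hx)).1 hx.1) (H'.mul_mem (conj_X (h.t'.norm e2) e1 hy).1 (H'.inv_mem hy.1))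
      exact (mul_inv_eq_iff_eq_mul.1 (mul_inv_eq_one.1 e4)).symm).trans (relIndex_le_card _ _)
  rw [card_eq_relIndex (H ⊓ M')]
  rw [hc'] at h1
  rw [hc] at h2
  nlinarith

theorem exists_four {b : G} (hb : b ∈ H' ⊓ M) (b2 : b * b ≠ 1) : ∃ a ∈ H ⊓ M', a * a ≠ 1 := by
  by_contra e
  push Not at e
  have hY : IsPGroup 2 (H' ⊓ M : Subgroup G) := IsPGroup.of_card (n := 2) hc'
  by_cases hs : IsSylowIn 2 (H ⊓ M') H
  · obtain ⟨g, e1⟩ := h.conj
    have hp : IsPGroup 2 (zpowers (g⁻¹ * b * g⁻¹⁻¹)) := cj_zpowers g⁻¹ b ▸ isPGroup_cj _ (isPGroup_zpowers_of_mem hY hb)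
    obtain ⟨k, -, hk⟩ := hs.exists_conj_mem (by simpa using mem_cj.1 (e1 ▸ hb.1)) hp
    refine b2 ?_
    calc b * b = g * k⁻¹ * (k * (g⁻¹ * b * g⁻¹⁻¹) * k⁻¹ * (k * (g⁻¹ * b * g⁻¹⁻¹) * k⁻¹)) * k * g⁻¹ := by group
      _ = 1 := by rw [e _ hk]; group
  obtain ⟨x, -, x2, -, x4⟩ := h.grow (pg_of_sq e) hY hs
  refine x2 (h.t'.cent _ (mul_mem hb hb).1 b2 x ?_)
  have e1 := h.comm _ (x4 b hb) b hb
  have e2 := e _ (x4 b hb)
  generalize hz : x * b * x⁻¹ * b⁻¹ = z at e1 e2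
  have e3 : x * b * x⁻¹ = z * b := by rw [← hz]; group
  calc b * b * x = (z * z) * b * b * x := by rw [e2, one_mul]
    _ = z * (z * b) * b * x := by group
    _ = z * (b * z) * b * x := by rw [← e1]
    _ = z * b * (z * b) * x := by group
    _ = _ := by rw [← e3]; group

omit h hc hc' in
theorem four_gen {Y : Subgroup G} (h4 : Nat.card Y = 4) {b : G} (hb : b ∈ Y) (b2 : b * b ≠ 1) :
    b * b * (b * b) = 1 ∧ ∀ y ∈ Y, y = 1 ∨ y = b * b ∨ y = b ∨ y = b * b * b := by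
  have h1 : b * b * (b * b) = 1 := by
    have := congrArg Subtype.val (pow_card_eq_one' (G := Y) (x := ⟨b, hb⟩))
    rw [h4] at this
    simpa [pow_succ, mul_assoc] using this
  exact ⟨h1, fun y hy => four_cases h4.le (mul_mem hb hb) hb h1 b2 (fun e => b2 (by simp [e]))
    (fun e => b2 (by rw [← e]; simpa using e)) hy⟩

omit hc in
theorem sq_mem {b w : G} (hb : b ∈ H' ⊓ M) (b2 : b * b ≠ 1) (h1 : w ∈ M) (h2 : w ∈ M')
    (h3 : w ∉ H ⊓ M' ⊔ H' ⊓ M) : w * b * w⁻¹ = b * b * b ∧ w * w ∈ H := by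
  obtain ⟨b4, hY⟩ := four_gen hc' hb b2
  have e : w * b * w⁻¹ = b * b * b := by
    rcases hY _ (conj_X (h.t'.norm h2) h1 hb) with e | e | e | e
    · exact (b2 (by rw [show b = 1 by simpa using e, mul_one])).elim
    · refine (b2 ?_).elim
      calc b * b = w⁻¹ * (w * b * w⁻¹ * (w * b * w⁻¹)) * w := by group
        _ = 1 := by rw [e, b4]; group
    · have e' : Commute b w := (mul_inv_eq_iff_eq_mul.1 e).symm
      refine (h3 (h.mem_A hc' h1 h2 fun y hy => ?_)).elim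
      rcases hY y hy with rfl | rfl | rfl | rfl
      exacts [by simp, e'.mul_left e', e', (e'.mul_left e').mul_left e']
    · exact e
  obtain ⟨φ, f1, f2⟩ := h.t.hom
  have hbb := mul_mem hb.2 hb.2
  refine ⟨e, (f2 _ (mul_mem h1 h1)).1 ((f1 w h1 w h1).trans (s4_inv _ (φ b) ?_ ?_ ?_))⟩
  · rw [← f1 b hb.2 w h1, ← f1 _ (mul_mem hb.2 h1) b hb.2]
    congr 1
    calc b * w * b = b * (w * b * w⁻¹) * w := by group
      _ = b * b * (b * b) * w := by rw [e]; group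
      _ = w := by rw [b4, one_mul]
  · rw [← f1 b hb.2 b hb.2]
    exact fun e => b2 (h.disj _ ((f2 _ hbb).1 e) (mul_mem hb hb).1)
  · rw [← f1 b hb.2 b hb.2, ← f1 _ hbb _ hbb, b4, (f2 1 (one_mem _)).2 (one_mem _)]

theorem case_c4 {a b : G} (ha : a ∈ H ⊓ M') (a2 : a * a ≠ 1) (hb : b ∈ H' ⊓ M) (b2 : b * b ≠ 1) :
    SR 16 (⊤ : Subgroup G) := by
  obtain ⟨a4, hX⟩ := four_gen hc ha a2
  obtain ⟨b4, hY⟩ := four_gen hc' hb b2
  have ht := mul_mem ha ha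
  have hu := mul_mem hb hb
  have hcu : ∀ x ∈ zpowers (a * a), x * (b * b) = b * b * x := fun x hx => h.comm x (zpowers_le.2 ht hx) _ hu
  have huz : b * b ∉ zpowers (a * a) := fun e => b2 (h.disj _ (zpowers_le.2 ht e).1 hu.1)
  have hU2 := sq_sup b4 (fun x hx => by rcases (mem_zpowers_two a4).1 hx with rfl | rfl <;> simp [a4]) hcu
  have hU4 := card_sup_two b4 huz hcu
  rw [card_zpowers_two a4 a2] at hU4
  have htU : a * a ∈ zpowers (a * a) ⊔ zpowers (b * b) := mem_sup_left (mem_zpowers _)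
  have huU : b * b ∈ zpowers (a * a) ⊔ zpowers (b * b) := mem_sup_right (mem_zpowers _)
  have hUA : zpowers (a * a) ⊔ zpowers (b * b) ≤ H ⊓ M' ⊔ H' ⊓ M :=
    sup_le_sup (zpowers_le.2 ht) (zpowers_le.2 hu)
  by_cases e : M ⊓ M' ≤ H ⊓ M' ⊔ H' ⊓ M
  swap
  · obtain ⟨w, hw, hw'⟩ := SetLike.not_le_iff_exists.1 e
    obtain ⟨e1, e2⟩ := h.sq_mem hc' hb b2 hw.1 hw.2 hw'
    obtain ⟨e3, e4⟩ := h.symm.sq_mem hc ha a2 hw.2 hw.1 (by rwa [sup_comm])
    have ww := h.disj _ e2 e4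
    have k : ∀ c : G, c * c * (c * c) = 1 → w * c * w⁻¹ = c * c * c → c * c * w = w * (c * c) := fun c c1 c2 => by
      calc c * c * w = c * c * (c * c) * (c * c) * w := by rw [c1, one_mul]
        _ = c * c * c * (c * c * c) * w := by group
        _ = _ := by rw [← c2]; group
    have hcw : ∀ x ∈ zpowers (a * a) ⊔ zpowers (b * b), x * w = w * x := fun x hx => mem_cent.1
      (sup_le (zpowers_le.2 (mem_cent.2 (k a a4 e3))) (zpowers_le.2 (mem_cent.2 (k b b4 e1))) hx)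
    have hE := sq_sup ww hU2 hcw
    obtain ⟨S, hS⟩ := (pg_of_sq hE).exists_le_sylow
    refine sr_of_sylow S (sr_of_e8 S.isPGroup' hS hE (by rw [card_sup_two ww (fun e => hw' (hUA e)) hcw, hU4])
      fun B _ hB hab => ?_)
    have h1 := h.t.ab (fun c hc => h.t.cent _ ht.1 a2 c (hab _ (hB (mem_sup_left htU)) c hc)) hab
    have h2 : Nat.card (H ⊓ B : Subgroup G) ≤ 2 := card_le_two (z := a * a) fun x hx => by
      have e5 := hab _ (hB (mem_sup_right (mem_zpowers w))) x hx.2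
      have e6 : ¬ w * a = a * w := fun e => a2 (by
        rw [e, mul_inv_cancel_right] at e3
        simpa using e3)
      rcases hX x (h.mem_X hu.1 b2 hx.1 (hab _ (hB (mem_sup_left huU)) x hx.2)) with e | e | e | e
      · exact Or.inl e
      · exact Or.inr e
      · exact (e6 (e ▸ e5)).elim
      · refine (e6 (mul_left_cancel (a := a * a) ?_)).elim
        rw [← mul_assoc, k a a4 e3, mul_assoc, ← e, e5, e]; group
    rw [card_eq_relIndex H B]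
    nlinarith
  have hA : IsPGroup 2 (H ⊓ M' ⊔ H' ⊓ M : Subgroup G) := IsPGroup.of_card (n := 4) (h.card_A hc hc')
  obtain ⟨S, hS⟩ := hA.exists_le_sylow
  have cA : ∀ c, a * a * c = c * (a * a) → b * b * c = c * (b * b) → c ∈ H ⊓ M' ⊔ H' ⊓ M := fun c c1 c2 =>
    e ⟨h.t.cent _ ht.1 a2 c c1, h.t'.cent _ hu.1 b2 c c2⟩
  have sq4 : ∀ c x : G, c * c * (c * c) = 1 → (x = 1 ∨ x = c * c ∨ x = c ∨ x = c * c * c) →
      x * x ∈ zpowers (c * c) := fun c x c1 c2 => by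
    rcases c2 with rfl | rfl | rfl | rfl
    · simp
    · exact mul_mem (mem_zpowers _) (mem_zpowers _)
    · exact mem_zpowers _
    · rw [show c * c * c * (c * c * c) = c * c * (c * c) * (c * c) by group, c1, one_mul]; exact mem_zpowers _
  have sqA : ∀ x ∈ H ⊓ M' ⊔ H' ⊓ M, x * x ∈ zpowers (a * a) ⊔ zpowers (b * b) := fun z hz => by
    obtain ⟨x, hx, y, hy, rfl⟩ := h.dec.1 hz
    rw [mul_assoc, ← mul_assoc y, ← h.comm x hx y hy, mul_assoc, ← mul_assoc]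
    exact mul_mem (mem_sup_left (sq4 a x a4 (hX x hx))) (mem_sup_right (sq4 b y b4 (hY y hy)))
  have cjsq : ∀ g c : G, g * (c * c) * g⁻¹ = g * c * g⁻¹ * (g * c * g⁻¹) := fun g c => by group
  have haA : a ∈ H ⊓ M' ⊔ H' ⊓ M := mem_sup_left ha
  have hbA : b ∈ H ⊓ M' ⊔ H' ⊓ M := mem_sup_right hb
  have hAN : H ⊓ M' ⊔ H' ⊓ M ≤ (S : Subgroup G) ⊓ normalizer ((H ⊓ M' ⊔ H' ⊓ M : Subgroup G) : Set G) :=
    le_inf hS le_normalizer
  have i1 : (H ⊓ M' ⊔ H' ⊓ M).relIndex ((S : Subgroup G) ⊓ normalizer ((H ⊓ M' ⊔ H' ⊓ M : Subgroup G) : Set G)) ≤ 2 := by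
    refine (relIndex_anti_left (K := centralizer ((zpowers (a * a) ⊔ zpowers (b * b) : Subgroup G) : Set G))
      (fun c hc => cA c (hc _ htU) (hc _ huU)) _).trans
      (cent_four (S.isPGroup'.to_le inf_le_left) (hUA.trans hAN) (fun n hn => mem_normalizer_of_cj_le ?_) hU2 hU4)
    rw [cj_sup, cj_zpowers, cj_zpowers, cjsq, cjsq]
    exact sup_le (zpowers_le.2 (sqA _ (conj_mem_of_mem_normalizer hn.2 haA)))
      (zpowers_le.2 (sqA _ (conj_mem_of_mem_normalizer hn.2 hbA)))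
  have abA : ∀ x ∈ H ⊓ M' ⊔ H' ⊓ M, ∀ y ∈ H ⊓ M' ⊔ H' ⊓ M, x * y = y * x := by
    have zX : H ⊓ M' = zpowers a := le_antisymm (fun x hx => by
      rcases hX x hx with rfl | rfl | rfl | rfl
      exacts [one_mem _, mul_mem (mem_zpowers a) (mem_zpowers a), mem_zpowers _,
        mul_mem (mul_mem (mem_zpowers a) (mem_zpowers a)) (mem_zpowers a)]) (zpowers_le.2 ha)
    have zY : H' ⊓ M = zpowers b := le_antisymm (fun x hx => by
      rcases hY x hx with rfl | rfl | rfl | rfl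
      exacts [one_mem _, mul_mem (mem_zpowers b) (mem_zpowers b), mem_zpowers _,
        mul_mem (mul_mem (mem_zpowers b) (mem_zpowers b)) (mem_zpowers b)]) (zpowers_le.2 hb)
    rw [zX, zY]
    exact comm_sup (fun _ h1 _ h2 => comm_of_mem_zpowers h1 h2) fun x hx => h.comm x (zX.ge hx) b hb
  have top : (S : Subgroup G) ≤ (S : Subgroup G) ⊓ normalizer ((H ⊓ M' ⊔ H' ⊓ M : Subgroup G) : Set G) := by
    by_contra e
    obtain ⟨r, hr, hr', -, h4⟩ := exists_norm_sq S.isPGroup' inf_le_left e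
    have k : ∀ c ∈ H ⊓ M' ⊔ H' ⊓ M, r⁻¹ * (c * c) * r ∈ H ⊓ M' ⊔ H' ⊓ M := fun c hc => by
      have h5 := conj_inv_mem h4 (hAN hc)
      rw [show r⁻¹ * (c * c) * r = r⁻¹ * c * r * (r⁻¹ * c * r) by group]
      by_cases e : r⁻¹ * c * r ∈ H ⊓ M' ⊔ H' ⊓ M
      · exact mul_mem e e
      · exact mul_mem_of_le_two i1 h5 h5 e e
    have k2 : ∀ z x, r⁻¹ * z * r * x = x * (r⁻¹ * z * r) → z * (r * x * r⁻¹) = r * x * r⁻¹ * z := fun z x e => by
      calc z * (r * x * r⁻¹) = r * (r⁻¹ * z * r * x) * r⁻¹ := by group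
        _ = _ := by rw [e]; group
    exact hr' ⟨hr, mem_normalizer_of_forall fun x hx =>
      cA _ (k2 _ x (abA _ (k a haA) x hx)) (k2 _ x (abA _ (k b hbA) x hx))⟩
  have i2 : (zpowers a).relIndex (H ⊓ M' ⊔ H' ⊓ M) ≤ 4 := by
    have h1 := card_eq_relIndex' (zpowers_le.2 haA)
    have h2 := two_mul_card_le (zpowers_le.2 (mul_mem (mem_zpowers a) (mem_zpowers a))) fun e => by
      rcases (mem_zpowers_two a4).1 (e (mem_zpowers a)) with e | e
      · exact a2 (by simp [e])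
      · exact a2 (by rw [← e]; simpa using e)
    rw [card_zpowers_two a4 a2] at h2
    rw [h.card_A hc hc'] at h1
    nlinarith
  exact sr_of_sylow S ((((sr_zpowers a).of_relIndex i2).of_relIndex i1).mono top)

end four

theorem sr {u : G} (hu : u ∈ H' ⊓ M) (u2 : orderOf u = 2) : SR 16 (⊤ : Subgroup G) := by
  obtain ⟨t, ht, t2⟩ := h.exists_inv hu u2
  have c1 := two_le_card ht (ne_one_of_orderOf_two t2)
  have c2 := two_le_card hu (ne_one_of_orderOf_two u2)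
  obtain ⟨k, c3⟩ := even_card_of_involution ht t2
  obtain ⟨l, c4⟩ := even_card_of_involution hu u2
  have c5 := h.card
  have c6 := h.card'
  have pg : ∀ X : Subgroup G, Nat.card X = 2 ∨ Nat.card X = 4 → IsPGroup 2 X := fun X e =>
    e.elim (fun e => IsPGroup.of_card (n := 1) e) fun e => IsPGroup.of_card (n := 2) e
  have hX := pg (H ⊓ M') (by omega)
  have hY := pg (H' ⊓ M) (by omega)
  by_cases e1 : IsSylowIn 2 (H ⊓ M') H ∧ Nat.card (H ⊓ M' : Subgroup G) = 2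
  · exact h.case_one ht t2 e1.1 e1.2
  by_cases e2 : IsSylowIn 2 (H' ⊓ M) H' ∧ Nat.card (H' ⊓ M : Subgroup G) = 2
  · exact h.symm.case_one hu u2 e2.1 e2.2
  by_cases e3 : Nat.card (H ⊓ M' : Subgroup G) = 2
  · have := h.card_le_of_not hX hY fun e => e1 ⟨e, e3⟩
    exact h.case_two ht t2 hu u2 e3 (by omega) (fun e => e1 ⟨e, e3⟩) fun e => e2 ⟨e, by omega⟩
  by_cases e4 : Nat.card (H' ⊓ M : Subgroup G) = 2
  · have := h.symm.card_le_of_not hY hX fun e => e2 ⟨e, e4⟩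
    omega
  have hc : Nat.card (H ⊓ M' : Subgroup G) = 4 := by omega
  have hc' : Nat.card (H' ⊓ M : Subgroup G) = 4 := by omega
  by_cases e5 : ∃ b ∈ H' ⊓ M, b * b ≠ 1
  · obtain ⟨b, hb, b2⟩ := e5
    obtain ⟨a, ha, a2⟩ := h.exists_four hc hc' hb b2
    exact h.case_c4 hc hc' ha a2 hb b2
  by_cases e6 : ∃ a ∈ H ⊓ M', a * a ≠ 1
  · obtain ⟨a, ha, a2⟩ := e6
    exact (e5 (h.symm.exists_four hc' hc ha a2)).elim
  push Not at e5 e6
  exact h.case_e16 hc hc' e6 e5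

end P4

end CfsgLib.Fix
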