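import Mathlib
import Cfsg.Agent.Lib.Sect.Tools
import Cfsg.Agent.Lib.Tech.Invol
import Cfsg.Agent.Lib.Transfer.Thompson

/-!
Transfer at the prime three: a non-real element of order three whose centraliser has Sylow 3-subgroups of order at
most nine; a tightly 3-embedded subgroup `H` with `N(H)/H ≤ S₄`.
-/

set_option autoImplicit false
set_option linter.unusedSectionVars false

namespace CfsgLib.Fix

open Subgroup MulAction CfsgLib.Sect CfsgLib.Tech

variable {G : Type*} [Group G] [Finite G]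

theorem nine_comb {V : Type*} [CommGroup V] [Finite V] (h9 : Nat.card V = 9) (s : Finset V) (h1 : 1 ∉ s)
    (h3 : ∀ a ∈ s, a * a = a⁻¹) (hi : ∀ a ∈ s, a⁻¹ ∉ s) (hp : ∏ a ∈ s, a = 1) : 3 ∣ s.card := by
  classical
  have := Fintype.ofFinite V
  have hd : Disjoint s (s.image (·⁻¹)) := Finset.disjoint_left.2 fun a ha hb => by
    obtain ⟨b, hb', e⟩ := Finset.mem_image.1 hb
    exact hi b hb' (e ▸ ha)
  have hs : s ∪ s.image (·⁻¹) ⊆ Finset.univ.erase 1 := fun a ha => by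
    refine Finset.mem_erase.2 ⟨?_, Finset.mem_univ _⟩
    rintro rfl
    rcases Finset.mem_union.1 ha with h | h
    · exact h1 h
    · obtain ⟨b, hb, e⟩ := Finset.mem_image.1 h
      exact h1 (inv_eq_one.1 e ▸ hb)
  have c1 : (s ∪ s.image (·⁻¹)).card = 2 * s.card := by
    rw [Finset.card_union_of_disjoint hd, Finset.card_image_of_injective _ inv_injective, two_mul]
  have c2 : (Finset.univ.erase (1 : V)).card = 8 := by
    rw [Finset.card_erase_of_mem (Finset.mem_univ _), Finset.card_univ, ← Nat.card_eq_fintype_card, h9]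
  have c3 := Finset.card_le_card hs
  have c4 : s.card = 0 ∨ s.card = 1 ∨ s.card = 2 ∨ s.card = 3 ∨ s.card = 3 + 1 := by omega
  rcases c4 with e | e | e | e | e
  · simp [e]
  · obtain ⟨a, rfl⟩ := Finset.card_eq_one.1 e
    rw [Finset.prod_singleton] at hp
    exact (h1 (by simp [hp])).elim
  · obtain ⟨a, b, hab, rfl⟩ := Finset.card_eq_two.1 e
    rw [Finset.prod_pair hab] at hp
    exact (hi a (by simp) (by simp [← eq_inv_of_mul_eq_one_right hp])).elim
  · simp [e]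
  exfalso
  have hu := Finset.eq_of_subset_of_card_le hs (by omega)
  obtain ⟨a, t, hat, rfl, ht⟩ := Finset.card_eq_succ.1 e
  obtain ⟨b, c, d, hbc, hbd, hcd, rfl⟩ := Finset.card_eq_three.1 ht
  rw [Finset.prod_insert hat, Finset.prod_insert (by simp [hbc, hbd]), Finset.prod_pair hcd] at hp
  have key : ∀ a b c d : V, a ≠ b → c ≠ d → b ≠ 1 → a ≠ 1 → c ≠ 1 → d ≠ 1 → a * a = a⁻¹ → b * b = b⁻¹ →
      c * c = c⁻¹ → d * d = d⁻¹ → a * (b * (c * d)) = 1 → a * b ≠ a ∧ a * b ≠ a⁻¹ ∧ a * b ≠ c ∧ a * b ≠ c⁻¹ :=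
    fun a b c d n1 n2 n3 n4 n5 n6 s1 s2 s3 s4 p => by
      refine ⟨fun e => n3 (by simpa using e), fun e => n1 ?_, fun e => n2 ?_, fun e => n6 ?_⟩
      · rw [← s1] at e; exact (mul_left_cancel e).symm
      · rw [← mul_assoc, e, ← mul_assoc, s3] at p
        exact inv_mul_eq_one.1 p
      · rwa [← mul_assoc, e, inv_mul_cancel_left] at p
  have na : a ≠ 1 := fun e => h1 (by simp [e])
  have nb : b ≠ 1 := fun e => h1 (by simp [e])
  have nc : c ≠ 1 := fun e => h1 (by simp [e])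
  have nd : d ≠ 1 := fun e => h1 (by simp [e])
  have hab : a ≠ b := fun e => hat (by simp [e])
  have sa := h3 a (by simp)
  have sb := h3 b (by simp)
  have sc := h3 c (by simp)
  have sd := h3 d (by simp)
  have k1 := key a b c d hab hcd nb na nc nd sa sb sc sd hp
  have k2 := key b a d c hab.symm hcd.symm na nb nd nc sb sa sd sc (by rw [← hp]; ac_rfl)
  rw [mul_comm b a] at k2
  have : a * b ∈ insert a {b, c, d} ∪ Finset.image (·⁻¹) (insert a ({b, c, d} : Finset V)) := by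
    rw [hu]
    exact Finset.mem_erase.2 ⟨fun e => hi a (by simp) (by simp [← eq_inv_of_mul_eq_one_right e]), Finset.mem_univ _⟩
  simp only [Finset.mem_union, Finset.mem_insert, Finset.mem_singleton, Finset.image_insert,
    Finset.image_singleton] at this
  rcases this with (e | e | e | e) | e | e | e | e
  exacts [k1.1 e, k2.1 e, k1.2.2.1 e, k2.2.2.1 e, k1.2.1 e, k2.2.1 e, k1.2.2.2 e, k2.2.2.2 e]

theorem class_of_cent (hG : IsPGroup 3 G) (h : 9 < Nat.card G) {y : G} (hc : Nat.card (centralizer {y}) ≤ 9) :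
    Nat.card (Abelianization G) = 9 ∧ Nat.card (centralizer {y}) = 9 ∧
      ∀ y', Abelianization.of y' = Abelianization.of y → ∃ k, k * y * k⁻¹ = y' := by
  have hn : ¬ IsCyclic G := fun e => by
    have : centralizer {y} = ⊤ := eq_top_iff.2 fun x _ => mem_cent.2 (e.commGroup.mul_comm x y)
    rw [this, card_top] at hc
    omega
  have := Fact.mk Nat.prime_three
  have h1 := PGroup.sq_le_index_commutator hG hn
  have hT : ∀ k ∈ (⊤ : Subgroup G), k * y * k⁻¹ * y⁻¹ ∈ ((commutator G : Subgroup G) : Set G) := fun k _ =>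
    commutator_mem_commutator (mem_top k) (mem_top y)
  have hf : ∀ a ∈ (⊤ : Subgroup G), ∀ b ∈ (⊤ : Subgroup G), a * y * a⁻¹ * y⁻¹ = b * y * b⁻¹ * y⁻¹ →
      a⁻¹ * b ∈ centralizer {y} := fun a _ b _ e => mem_cent.2 (comm_fib' e)
  have h2 := index_le ⊤ (centralizer {y}) _ _ hT hf
  have h3 := (commutator G).card_mul_index
  have h4 := (centralizer {y}).card_mul_index
  simp only [SetLike.coe_sort_coe, relIndex_top_right] at h2
  have h5 : 0 < Nat.card (commutator G) := Nat.card_pos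
  have h6 : (commutator G).index = 9 := by nlinarith
  have h7 : Nat.card (centralizer {y}) = 9 := by nlinarith
  refine ⟨h6, h7, fun y' e => ?_⟩
  obtain ⟨k, -, hk⟩ := exists_of_index ⊤ (centralizer {y}) _ _ hT hf
    (by simp only [SetLike.coe_sort_coe, relIndex_top_right]; nlinarith) (t := y' * y⁻¹)
    (by rw [SetLike.mem_coe, ← Abelianization.ker_of, MonoidHom.mem_ker, map_mul, map_inv, e, mul_inv_cancel])
  exact ⟨k, mul_right_cancel hk⟩

open Classical in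
/-- the transfer of an element of prime order is the product over the fixed cosets -/
theorem transfer_fixed {H : Subgroup G} {A : Type*} [CommGroup A] (ϕ : H →* A) {x : G} {p : ℕ} (hp : p.Prime)
    (hx : orderOf x = p) [Fintype (G ⧸ H)] : MonoidHom.transfer ϕ x =
      ∏ q ∈ Finset.univ.filter (fun q : G ⧸ H => x • q = q),
        if h : q.out⁻¹ * x * q.out ∈ H then ϕ ⟨_, h⟩ else 1 := by
  have := Fintype.ofFinite (Quotient (orbitRel (zpowers x) (G ⧸ H)))
  rw [MonoidHom.transfer_eq_prod_quotient_orbitRel_zpowers_quot,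
    ← Finset.prod_filter_mul_prod_filter_not Finset.univ (fun o => x • o.out = o.out)]
  rw [Finset.prod_eq_one (s := Finset.univ.filter fun o => ¬ _) fun o ho => ?_, mul_one]
  · refine Finset.prod_bij (fun o _ => o.out) (fun o ho => by simpa using ho)
      (fun a _ b _ e => Quotient.out_injective e) (fun q hq => ?_) fun o ho => ?_
    · have hq' : x • q = q := by simpa using hq
      have e : (Quotient.mk (orbitRel (zpowers x) (G ⧸ H)) q).out = q := by
        obtain ⟨⟨y, hy⟩, e⟩ := orbitRel_apply.1 (Quotient.mk_out (s := orbitRel (zpowers x) (G ⧸ H)) q)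
        exact e.symm.trans (zpowers_le.2 (mem_stabilizer_iff.2 hq') hy)
      exact ⟨_, by simpa [e] using hq', e⟩
    · have e : Function.minimalPeriod (x • ·) o.out = 1 :=
        Function.minimalPeriod_eq_one_iff_isFixedPt.2 (Finset.mem_filter.1 ho).2
      have h := QuotientGroup.out_conj_pow_minimalPeriod_mem H x o.out
      rw [dif_pos (by simpa [e] using h)]
      simp [e]
  · have h1 : Function.minimalPeriod (x • ·) o.out ∣ p := by
      rw [← pow_smul_eq_iff_minimalPeriod_dvd, ← hx, pow_orderOf_eq_one, one_smul]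
    have h2 := ((Nat.dvd_prime hp).1 h1).resolve_left fun e =>
      (Finset.mem_filter.1 ho).2 (Function.minimalPeriod_eq_one_iff_isFixedPt.1 e)
    rw [← map_one ϕ]
    congr 2
    rw [h2, ← hx, pow_orderOf_eq_one]; group

theorem hom_triv [IsSimpleGroup G] (hna : ¬ IsMulCommutative G) {A : Type*} [CommGroup A] (f : G →* A) (g : G) :
    f g = 1 := by
  rcases f.normal_ker.eq_bot_or_eq_top with e | e
  · exact (hna ⟨⟨fun a b => (MonoidHom.ker_eq_bot_iff f).1 e (by rw [map_mul, map_mul, mul_comm])⟩⟩).elim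
  · exact e.ge trivial

/-- a non-real element of order three with a small centraliser -/
theorem card_le_nine [IsSimpleGroup G] (hna : ¬ IsMulCommutative G) {P : Subgroup G} (hP : IsSylowIn 3 P ⊤)
    {x : G} (hx : orderOf x = 3) (hr : ∀ g, g * x * g⁻¹ ≠ x⁻¹)
    (hc : ∀ W ≤ centralizer {x}, IsPGroup 3 W → Nat.card W ≤ 9) : Nat.card P ≤ 9 := by
  classical
  have := Fact.mk Nat.prime_three
  by_contra h9
  have := Fintype.ofFinite (G ⧸ P)
  have := Fintype.ofFinite G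
  have x3 : x ^ 3 = 1 := hx ▸ pow_orderOf_eq_one x
  have fx : ∀ q : G ⧸ P, x • q = q ↔ q.out⁻¹ * x * q.out ∈ P := fun q => by
    conv_lhs => rw [← QuotientGroup.out_eq' q]
    rw [MulAction.Quotient.smul_mk, eq_comm, QuotientGroup.eq, smul_eq_mul, ← mul_assoc]
  have st : ∀ (g : G) (h : g⁻¹ * x * g ∈ P), Nat.card (centralizer {(⟨_, h⟩ : P)}) =
      Nat.card (stabilizer (centralizer {x} : Subgroup G) (g : G ⧸ P)) := fun g h =>
    Nat.card_congr
      { toFun := fun c => ⟨⟨g * c.1.1 * g⁻¹, mem_cent.2 (by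
            have : (c.1.1 : G) * (g⁻¹ * x * g) = g⁻¹ * x * g * c.1.1 := congrArg Subtype.val (mem_cent.1 c.2)
            calc g * c.1.1 * g⁻¹ * x = g * (c.1.1 * (g⁻¹ * x * g)) * g⁻¹ := by group
              _ = g * (g⁻¹ * x * g * c.1.1) * g⁻¹ := by rw [this]
              _ = _ := by group)⟩, by
            show ((g * c.1.1 * g⁻¹ * g : G) : G ⧸ P) = g
            rw [QuotientGroup.eq]
            simp⟩
        invFun := fun c => ⟨⟨g⁻¹ * c.1.1 * g, by
            have : ((c.1.1 * g : G) : G ⧸ P) = g := mem_stabilizer_iff.1 c.2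
            rw [eq_comm, QuotientGroup.eq] at this
            simpa [mul_assoc] using this⟩, mem_cent.2 (Subtype.ext (by
            calc g⁻¹ * c.1.1 * g * (g⁻¹ * x * g) = g⁻¹ * (c.1.1 * x) * g := by group
              _ = _ := by rw [mem_cent.1 c.1.2]; simp [mul_assoc]))⟩
        left_inv := fun c => by ext; simp [mul_assoc]
        right_inv := fun c => by ext; simp [mul_assoc] }
  have cl := fun (g : G) (h : g⁻¹ * x * g ∈ P) => class_of_cent hP.pgroup (not_le.1 h9) (y := ⟨_, h⟩) (by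
    rw [← card_map_of_injective P.subtype_injective, ← card_cj g]
    refine hc _ (cj_le_iff.2 ?_) (isPGroup_cj g (hP.pgroup.to_le (map_subtype_le _)))
    rintro _ ⟨c, hc, rfl⟩
    have : (c : G) * (g⁻¹ * x * g) = g⁻¹ * x * g * c := congrArg Subtype.val (mem_cent.1 hc)
    refine mem_cent.2 ?_
    calc g * c * g⁻¹ * x = g * (c * (g⁻¹ * x * g)) * g⁻¹ := by group
      _ = _ := by rw [this]; simp [mul_assoc])
  set F := Finset.univ.filter (fun q : G ⧸ P => x • q = q) with hF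
  set val : G ⧸ P → Abelianization P := fun q =>
    if h : q.out⁻¹ * x * q.out ∈ P then Abelianization.of ⟨_, h⟩ else 1 with hval
  have vmk : ∀ (g : G) (h : g⁻¹ * x * g ∈ P), x • (g : G ⧸ P) = g ∧ val g = Abelianization.of ⟨_, h⟩ := fun g h => by
    obtain ⟨k, hk⟩ := QuotientGroup.mk_out_eq_mul P g
    have e : (g : G ⧸ P).out⁻¹ * x * (g : G ⧸ P).out = (k⁻¹ * ⟨_, h⟩ * k : P) := by rw [hk]; simp [mul_assoc]
    have h' : (g : G ⧸ P).out⁻¹ * x * (g : G ⧸ P).out ∈ P := e ▸ Subtype.prop _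
    refine ⟨(fx _).2 h', ?_⟩
    rw [hval]
    simp only [dif_pos h']
    rw [show (⟨_, h'⟩ : P) = k⁻¹ * ⟨_, h⟩ * k from Subtype.ext e, map_mul, map_mul, map_inv, inv_mul_cancel_comm]
  have memF : ∀ q ∈ F, ∃ (g : G) (h : g⁻¹ * x * g ∈ P), q = g ∧ val q = Abelianization.of ⟨_, h⟩ := fun q hq => by
    have h := (fx q).1 (Finset.mem_filter.1 hq).2
    exact ⟨q.out, h, (QuotientGroup.out_eq' q).symm, dif_pos h⟩
  have fib : ∀ b ∈ F.image val, (F.filter fun q => val q = b).card = Nat.card (centralizer {x}) / 9 := fun b hb => by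
    obtain ⟨q, hq, rfl⟩ := Finset.mem_image.1 hb
    obtain ⟨g, h, rfl, e⟩ := memF q hq
    have h1 := card_orbit_mul_card_stabilizer_eq_card_group (centralizer {x} : Subgroup G) (g : G ⧸ P)
    rw [← Nat.card_eq_fintype_card, ← Nat.card_eq_fintype_card, ← Nat.card_eq_fintype_card, ← st g h,
      (cl g h).2.1] at h1
    rw [← h1, Nat.mul_div_cancel _ (by norm_num), Nat.card_coe_set_eq, ← Set.ncard_coe_finset]
    congr 1
    ext r
    simp only [Finset.coe_filter, Set.mem_ofPred_eq, mem_orbit_iff]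
    constructor
    · rintro ⟨hr, e'⟩
      obtain ⟨g', h', rfl, e''⟩ := memF r hr
      obtain ⟨k, hk⟩ := (cl g h).2.2 _ (e''.symm.trans (e'.trans e))
      have hk' : (k : G) * (g⁻¹ * x * g) * (k : G)⁻¹ = g'⁻¹ * x * g' := congrArg Subtype.val hk
      refine ⟨⟨g' * k * g⁻¹, mem_cent.2 ?_⟩, ?_⟩
      · calc g' * k * g⁻¹ * x = g' * (k * (g⁻¹ * x * g) * (k : G)⁻¹) * k * g⁻¹ := by group
          _ = _ := by rw [hk']; group
      · show ((g' * k * g⁻¹ * g : G) : G ⧸ P) = g'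
        rw [QuotientGroup.eq]
        simp
    · rintro ⟨⟨c, hc⟩, rfl⟩
      have e1 : (c * g)⁻¹ * x * (c * g) = g⁻¹ * x * g := by
        calc (c * g)⁻¹ * x * (c * g) = g⁻¹ * c⁻¹ * (x * c) * g := by group
          _ = _ := by rw [← mem_cent.1 hc]; group
      have := vmk (c * g) (e1 ▸ h)
      show ((c * g : G) : G ⧸ P) ∈ F ∧ val ((c * g : G) : G ⧸ P) = val g
      exact ⟨Finset.mem_filter.2 ⟨Finset.mem_univ _, this.1⟩, this.2.trans ((congrArg _ (Subtype.ext e1)).trans e.symm)⟩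
  have t1 := hom_triv hna (MonoidHom.transfer (Abelianization.of (G := P))) x
  rw [transfer_fixed _ Nat.prime_three hx, ← hF] at t1
  have t2 : ∏ q ∈ F, val q = 1 := t1
  rw [Finset.prod_comp (fun v => v) val, Finset.prod_congr rfl fun b hb => by rw [fib b hb], Finset.prod_pow] at t2
  have t3 : F.card = (F.image val).card * (Nat.card (centralizer {x}) / 9) := by
    rw [Finset.card_eq_sum_card_image val F, Finset.sum_congr rfl fib, Finset.sum_const, smul_eq_mul]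
  have t4 : ¬ 3 ∣ F.card := fun e => by
    have h1 := (isPGroup_zpowers_of_pow (k := 1) (by simpa using x3)).card_modEq_card_fixedPoints (G ⧸ P)
    have h2 : Nat.card (fixedPoints (zpowers x) (G ⧸ P)) = F.card := by
      rw [Nat.card_coe_set_eq, ← Set.ncard_coe_finset]
      congr 1
      ext q
      simp only [hF, Finset.coe_filter, Finset.mem_univ, true_and, Set.mem_ofPred_eq, mem_fixedPoints]
      exact ⟨fun h => h ⟨x, mem_zpowers x⟩, fun h y => zpowers_le.2 (mem_stabilizer_iff.2 h) y.2⟩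
    rw [h2] at h1
    exact hP.not_dvd (by rw [relIndex_top_right]; exact (h1.dvd_iff dvd_rfl).2 e)
  have cube : ∀ b ∈ F.image val, b ^ 3 = 1 := fun b hb => by
    obtain ⟨q, hq, rfl⟩ := Finset.mem_image.1 hb
    obtain ⟨g, h, -, e⟩ := memF q hq
    rw [e, ← map_pow, ← map_one Abelianization.of]
    exact congrArg _ (Subtype.ext (by simpa using conj_pow (a := g⁻¹) (b := x) (i := 3) |>.trans (by simp [x3])))
  obtain ⟨q, hq⟩ : F.Nonempty := Finset.card_pos.1 (Nat.pos_of_ne_zero fun e => t4 (by simp [e]))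
  obtain ⟨g₀, h₀, -, -⟩ := memF q hq
  refine t4 (t3 ▸ Dvd.dvd.mul_right (nine_comb (cl g₀ h₀).1 _ (fun hb => ?_) (fun b hb => ?_) (fun b hb hb' => ?_) ?_) _)
  · obtain ⟨q, hq, e⟩ := Finset.mem_image.1 hb
    obtain ⟨g, h, -, e'⟩ := memF q hq
    obtain ⟨k, hk⟩ := (cl g h).2.2 1 (by rw [← e', e, map_one])
    have : g⁻¹ * x * g = 1 := congrArg Subtype.val (show (⟨_, h⟩ : P) = 1 by simpa using hk)
    rw [show x = g * (g⁻¹ * x * g) * g⁻¹ by group, this] at hx
    simp at hx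
  · exact eq_inv_of_mul_eq_one_left (by rw [← cube b hb, pow_succ, pow_two])
  · obtain ⟨q, hq, rfl⟩ := Finset.mem_image.1 hb
    obtain ⟨q', hq', e⟩ := Finset.mem_image.1 hb'
    obtain ⟨g, h, -, e1⟩ := memF q hq
    obtain ⟨g', h', -, e2⟩ := memF q' hq'
    obtain ⟨k, hk⟩ := (cl g' h').2.2 (⟨_, h⟩ : P)⁻¹ (by rw [map_inv, ← e1, ← e2, e])
    have hk' : (k : G) * (g'⁻¹ * x * g') * (k : G)⁻¹ = (g⁻¹ * x * g)⁻¹ := congrArg Subtype.val hk
    refine hr (g * k * g'⁻¹) ?_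
    calc g * k * g'⁻¹ * x * (g * k * g'⁻¹)⁻¹ = g * (k * (g'⁻¹ * x * g') * (k : G)⁻¹) * g⁻¹ := by group
      _ = _ := by rw [hk']; group
  · have h1 : (∏ b ∈ F.image val, b) ^ 3 = 1 := by rw [← Finset.prod_pow]; exact Finset.prod_eq_one cube
    have h2 : Nat.Coprime 3 (Nat.card (centralizer {x}) / 9) :=
      (Nat.Prime.coprime_iff_not_dvd Nat.prime_three).2 fun e => t4 (t3 ▸ e.mul_left _)
    exact orderOf_eq_one_iff.1 (Nat.eq_one_of_dvd_coprimes h2 (orderOf_dvd_of_pow_eq_one h1)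
      (orderOf_dvd_of_pow_eq_one t2))

theorem sq_of_odd {a b : G} (ho : Odd (orderOf a)) (h : a * b * a⁻¹ = b⁻¹) : b * b = 1 := by
  obtain ⟨k, hk⟩ := ho
  have h1 : Commute (a * a) b := by
    refine mul_inv_eq_iff_eq_mul.1 ?_
    calc a * a * b * (a * a)⁻¹ = a * (a * b * a⁻¹) * a⁻¹ := by group
      _ = a * b⁻¹ * a⁻¹ := by rw [h]
      _ = (a * b * a⁻¹)⁻¹ := by group
      _ = b := by rw [h, inv_inv]
  have h2 : a = (a * a) ^ (k + 1) := by
    rw [← pow_two, ← pow_mul, show 2 * (k + 1) = orderOf a + 1 by omega, pow_succ, pow_orderOf_eq_one, one_mul]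
  have h3 : Commute a b := h2 ▸ h1.pow_left _
  rw [h3.eq, mul_inv_cancel_right] at h
  exact mul_eq_one_iff_eq_inv.2 h

theorem three_cases {z x : G} (hz : orderOf z = 3) (hx : x ∈ zpowers z) : x = 1 ∨ x = z ∨ x = z⁻¹ := by
  obtain ⟨n, rfl⟩ := (mem_powers_iff_mem_zpowers.2 hx)
  have z3 : z * z * z = 1 := by rw [← pow_orderOf_eq_one z, hz, pow_succ, pow_two]
  show z ^ n = 1 ∨ z ^ n = z ∨ z ^ n = z⁻¹
  rw [← pow_mod_orderOf, hz]
  have : n % 3 = 0 ∨ n % 3 = 1 ∨ n % 3 = 2 := by omega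
  rcases this with e | e | e <;> rw [e]
  · simp
  · simp
  · exact Or.inr (Or.inr (by rw [pow_two]; exact eq_inv_of_mul_eq_one_left z3))

theorem z3_cube : ∀ a : Multiplicative (ZMod 3), a * a * a = 1 := by decide

theorem z3_tri : ∀ a b : Multiplicative (ZMod 3), a ≠ 1 → b ≠ 1 → b * a ≠ 1 → b = a := by decide

/-- a tightly 3-embedded subgroup `H` with `M / H ≤ S₄`, the point stabilisers having odd order -/
structure T3 (H M : Subgroup G) : Prop where
  le : H ≤ M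
  norm : M ≤ normalizer (H : Set G)
  ti : ∀ g, ∀ x ∈ H, orderOf x = 3 → g * x * g⁻¹ ∈ H → g ∈ M
  dvd : ∀ U ≤ M, H.relIndex U ∣ 24
  odd : ∀ y ∈ M, y ∉ H → y * y * y ∈ H → ∀ m ∈ M, ∃ i : ℕ, Odd (orderOf (y ^ i * m))
  semi : ∀ g, g ∉ M → ∀ U ≤ H ⊓ cj g M, IsPGroup 3 U → Nat.card U ≤ 3

namespace T3

variable {H M : Subgroup G} (h : T3 H M)
include h

theorem idx {U : Subgroup G} (hU : U ≤ M) (hp : IsPGroup 3 U) : H.relIndex U = 1 ∨ H.relIndex U = 3 := by
  have := Fact.mk Nat.prime_three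
  obtain ⟨k, hk⟩ := hp.exists_card_eq
  obtain ⟨i, -, hi⟩ := (Nat.dvd_prime_pow Nat.prime_three).1 (hk ▸ relIndex_dvd_card H U)
  have h1 := h.dvd U hU
  rw [hi] at h1 ⊢
  rcases i with _ | _ | i
  · simp
  · simp
  · exact absurd ((pow_dvd_pow 3 (by omega : 2 ≤ i + 1 + 1)).trans h1) (by norm_num)

theorem nr {y m : G} (hy : y ∈ M) (hy' : y ∉ H) (h3 : y * y * y ∈ H) (hm : m ∈ M) : m * y * m⁻¹ * y ∉ H := by
  intro e
  obtain ⟨i, hi⟩ := h.odd y hy hy' h3 m hm
  have : (H.subgroupOf M).Normal := ⟨fun x hx g => conj_mem_of_mem_normalizer (G := G) (h.norm g.2) hx⟩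
  have hm' : y ^ i * m ∈ M := mul_mem (pow_mem hy i) hm
  have h1 := sq_of_odd (a := QuotientGroup.mk' (H.subgroupOf M) ⟨_, hm'⟩)
    (b := QuotientGroup.mk' (H.subgroupOf M) ⟨y, hy⟩)
    (Odd.of_dvd_nat hi ((orderOf_map_dvd _ _).trans (by rw [← orderOf_coe]))) (by
      rw [← mul_eq_one_iff_eq_inv, ← map_inv, ← map_mul, ← map_mul, ← map_mul]
      refine (QuotientGroup.eq_one_iff _).2 ?_
      have := conj_mem_of_mem_normalizer (h.norm (pow_mem hy i)) e
      show y ^ i * m * y * (y ^ i * m)⁻¹ * y ∈ H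
      rwa [show y ^ i * m * y * (y ^ i * m)⁻¹ * y = y ^ i * (m * y * m⁻¹ * y) * (y ^ i)⁻¹ by group])
  rw [← map_mul] at h1
  have h2 : y * y ∈ H := (QuotientGroup.eq_one_iff (N := H.subgroupOf M) _).1 h1
  exact hy' (by simpa [mul_assoc] using H.mul_mem (H.inv_mem h2) h3)

theorem nr2 {z u : G} (hz : z ∈ H) (z3 : orderOf z = 3) (hu : u ∉ H) (u3 : orderOf u = 3) (e : u * z = z * u)
    (m : G) : m * z * m⁻¹ ≠ z⁻¹ := by
  intro e1
  obtain ⟨i, hi⟩ := h.odd u (h.ti u z hz z3 (by rwa [e, mul_inv_cancel_right])) hu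
    (by rw [show u * u * u = u ^ orderOf u by rw [u3, pow_succ, pow_two], pow_orderOf_eq_one]; exact one_mem _)
    m (h.ti m z hz z3 (e1 ▸ inv_mem hz))
  have h1 := sq_of_odd (b := z) hi (by
    have : Commute (u ^ i) z⁻¹ := (Commute.pow_left e i).inv_right
    calc u ^ i * m * z * (u ^ i * m)⁻¹ = u ^ i * (m * z * m⁻¹) * (u ^ i)⁻¹ := by group
      _ = _ := by rw [e1, this.eq, mul_inv_cancel_right])
  have := orderOf_dvd_of_pow_eq_one ((pow_two z).trans h1)
  rw [z3] at this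
  omega

theorem central {R : Subgroup G} (hR : IsSylowIn 3 R M) (h3 : 3 ∣ Nat.card H) :
    IsSylowIn 3 (R ⊓ H) H ∧ R ≤ normalizer ((R ⊓ H : Subgroup G) : Set G) ∧
      ∃ z ∈ R ⊓ H, orderOf z = 3 ∧ ∀ r ∈ R, r * z = z * r := by
  have := Fact.mk Nat.prime_three
  have hQ := hR.inf_of_le_normalizer h.norm
  rw [inf_eq_right.2 h.le] at hQ
  have hn : R ≤ normalizer ((R ⊓ H : Subgroup G) : Set G) := fun r hr =>
    mem_normalizer_of_forall fun x hx => ⟨R.mul_mem (R.mul_mem hr hx.1) (R.inv_mem hr),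
      conj_mem_of_mem_normalizer (h.norm (hR.le hr)) hx.2⟩
  refine ⟨hQ, hn, exists_mem_center_of_normalized hR.pgroup inf_le_left hn fun e => hQ.not_dvd ?_⟩
  rwa [e, relIndex_bot_left]

theorem grow {g z u : G} (hg : g ∉ M) (h' : T3 (cj g H) (cj g M)) (hz : z ∈ H) (z3 : orderOf z = 3)
    (hu : u ∈ cj g H) (u3 : orderOf u = 3) (huM : u ∈ M) (e : u * z = z * u) (hs : ¬ IsSylowIn 3 (zpowers z) H) :
    ∃ x, x * z = z * x ∧ x * u * x⁻¹ = z * u := by
  have := Fact.mk Nat.prime_three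
  have pz : ∀ {a : G}, orderOf a = 3 → IsPGroup 3 (zpowers a) := fun ha =>
    IsPGroup.of_card (n := 1) (by rw [Nat.card_zpowers, ha, pow_one])
  have hc : ∀ a ∈ zpowers z, ∀ b ∈ zpowers u, a * b = b * a := by
    rintro _ ⟨i, rfl⟩ _ ⟨j, rfl⟩
    exact (Commute.zpow_zpow e.symm i j).eq
  have hE : IsPGroup 3 (zpowers z ⊔ zpowers u : Subgroup G) := (pz z3).to_sup_of_normal_left' (pz u3) fun y hy =>
    mem_normalizer_of_forall fun x hx => by rwa [← hc x hx y hy, mul_inv_cancel_right]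
  obtain ⟨R, hR, hle⟩ := exists_isSylowIn_ge hE (sup_le (zpowers_le.2 (h.le hz)) (zpowers_le.2 huM))
  obtain ⟨hQ, hn, z₀, h1, h2, h3⟩ := h.central hR (z3 ▸ orderOf_dvd_natCard _ hz)
  have hzR := hle (mem_sup_left (mem_zpowers z))
  have huR := hle (mem_sup_right (mem_zpowers u))
  have small : ∀ a ∈ R ⊓ H, ∀ b ∈ R ⊓ H, orderOf a = 3 → a * u = u * a → b * u = u * b → b ∈ zpowers a :=
    fun a ha b hb a3 e1 e2 => by
      have k : ∀ c, c * u = u * c → c ∈ cj g M := fun c e =>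
        h'.ti c u hu u3 (by rwa [e, mul_inv_cancel_right])
      exact (eq_of_le_of_card_ge (le_sup_left : zpowers a ≤ zpowers a ⊔ zpowers b) (by
        rw [Nat.card_zpowers, a3]
        exact h.semi g hg _ (sup_le (zpowers_le.2 ⟨ha.2, k a e1⟩) (zpowers_le.2 ⟨hb.2, k b e2⟩))
          (hR.pgroup.to_le (sup_le (zpowers_le.2 ha.1) (zpowers_le.2 hb.1))))).ge (mem_sup_right (mem_zpowers b))
  have zc : ∀ r ∈ R, r * z = z * r := fun r hr => by
    obtain ⟨i, rfl⟩ := small z₀ h1 z ⟨hzR, hz⟩ h2 (h3 u huR).symm e.symm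
    exact (Commute.zpow_right (h3 r hr) i).eq
  have EH : ∀ a ∈ zpowers z ⊔ zpowers u, a ∈ H → a ∈ zpowers z := fun a ha haH => by
    refine small z ⟨hzR, hz⟩ a ⟨hle ha, haH⟩ z3 e.symm (mem_cent.1 ?_)
    exact sup_le (zpowers_le.2 (mem_cent.2 e.symm)) (zpowers_le.2 (mem_cent.2 rfl)) ha
  have hlt : zpowers z ⊔ zpowers u < zpowers z ⊔ zpowers u ⊔ R ⊓ H := lt_of_le_of_ne le_sup_left fun e =>
    hs (hQ.of_card_le (pz z3) (zpowers_le.2 hz) (card_le_of_le fun x hx => EH x (e ▸ mem_sup_right hx) hx.2))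
  obtain ⟨x, x1, x2, x3⟩ := exists_mem_normalizer_of_lt (hR.pgroup.to_le (sup_le hle inf_le_left)) hlt
  obtain ⟨a, ha, q, hq, rfl⟩ := (mem_sup_of_norm fun a ha b hb =>
    conj_mem_of_mem_normalizer (hn (hle ha)) hb).1 x1
  have h4 : q ∈ normalizer ((zpowers z ⊔ zpowers u : Subgroup G) : Set G) := by
    simpa using mul_mem (inv_mem (le_normalizer ha)) x3
  have h5 : q * u * q⁻¹ * u⁻¹ ∈ zpowers z := EH _ (mul_mem (conj_mem_of_mem_normalizer h4
    (mem_sup_right (mem_zpowers u))) (inv_mem (mem_sup_right (mem_zpowers u)))) (by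
      simpa [mul_assoc] using H.mul_mem hq.2 (conj_mem_of_mem_normalizer (h.norm huM) (H.inv_mem hq.2)))
  rcases three_cases z3 h5 with e1 | e1 | e1
  · exact (x2 (mul_mem ha (mem_sup_left (small z ⟨hzR, hz⟩ q hq z3 e.symm
      (mul_inv_eq_iff_eq_mul.1 (mul_inv_eq_one.1 e1)))))).elim
  · exact ⟨q, zc q hq.1, mul_inv_eq_iff_eq_mul.1 e1⟩
  · refine ⟨q⁻¹, zc _ (inv_mem hq.1), ?_⟩
    calc q⁻¹ * u * q⁻¹⁻¹ = q⁻¹ * (q * u * q⁻¹ * u⁻¹)⁻¹ * q * u := by group
      _ = q⁻¹ * (z * q) * u := by rw [e1]; group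
      _ = _ := by rw [← zc q hq.1]; group

variable [IsSimpleGroup G] (hna : ¬ IsMulCommutative G) (h3 : 3 ∣ Nat.card H)
include hna h3

theorem closed (hB : ∀ g, ∀ z ∈ H, orderOf z = 3 → g * z * g⁻¹ ∈ M → g ∈ M) (g : G) (hg : g ∉ M) :
    ¬ 3 ∣ Nat.card (M ⊓ cj g M : Subgroup G) := by
  have := Fact.mk Nat.prime_three
  obtain ⟨R, hR⟩ := exists_isSylowIn 3 M
  obtain ⟨hQ, hn, z, z1, z3, zc⟩ := h.central hR h3
  by_cases e : R ≤ H
  · intro e1
    obtain ⟨⟨y, hy⟩, y3⟩ := exists_prime_orderOf_dvd_card' 3 e1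
    rw [← orderOf_coe] at y3
    obtain ⟨k, hk, hk'⟩ := hR.exists_conj_mem hy.1 (isPGroup_zpowers_iff.2 ⟨1, y3⟩)
    exact hg (by simpa using inv_mem (hB g⁻¹ y (by
      simpa [mul_assoc] using conj_mem_of_mem_normalizer' (h.norm hk) (e hk')) y3 (by simpa using mem_cj.1 hy.2)))
  exfalso
  have hP : IsSylowIn 3 R ⊤ := by
    by_contra e1
    obtain ⟨T, t1, t2, -, t3⟩ := exists_lt_pgroup_normalizer hR.pgroup le_top e1
    exact t2.ne (hR.eq_of_le t1 t2.le fun s hs =>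
      hB s z z1.2 z3 (hR.le (conj_mem_of_mem_normalizer (t3 hs) z1.1))).symm
  have i3 : H.relIndex R = 3 := (h.idx hR.le hR.pgroup).resolve_left fun e1 => e (relIndex_eq_one.1 e1)
  have : (H.subgroupOf R).Normal :=
    ⟨fun x hx g => conj_mem_of_mem_normalizer (G := G) (h.norm (hR.le g.2)) hx⟩
  let ε : (R ⧸ H.subgroupOf R) ≃* Multiplicative (ZMod 3) := mulEquivOfPrimeCardEq (p := 3) i3 (by simp)
  let ϕ : R →* Multiplicative (ZMod 3) := ε.toMonoidHom.comp (QuotientGroup.mk' _)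
  have ker : ∀ x : R, ϕ x = 1 ↔ (x : G) ∈ H := fun x =>
    ε.map_eq_one_iff.trans (QuotientGroup.eq_one_iff x)
  have cube := z3_cube
  have tri := z3_tri
  have sc : ∀ t, ∀ y ∈ R ⊓ H, t * y * t⁻¹ ∈ R → t * y * t⁻¹ ∈ H := fun t y hy e => by
    by_cases y1 : y = 1
    · simp [y1]
    obtain ⟨⟨_, i, rfl⟩, w3⟩ := exists_prime_orderOf_dvd_card' (G := zpowers y) 3
      ((isPGroup_zpowers_of_mem hR.pgroup hy.1).card_eq_or_dvd.resolve_left (by simpa using y1))
    rw [← orderOf_coe] at w3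
    exact conj_mem_of_mem_normalizer (h.norm (hB t _ (H.zpow_mem hy.2 i) w3
      (by rw [← conj_zpow]; exact hR.le (zpow_mem e i)))) hy.2
  obtain ⟨u, hu, hu'⟩ := SetLike.not_le_iff_exists.1 e
  have a1 : ϕ ⟨u, hu⟩ ≠ 1 := fun e => hu' ((ker _).1 e)
  have u3 : u * u * u ∈ H := (ker (⟨u, hu⟩ * ⟨u, hu⟩ * ⟨u, hu⟩)).1 (by rw [map_mul, map_mul, cube])
  have t1 := Transfer.transfer_eq_pow_of_forall ϕ u (ϕ ⟨u, hu⟩) fun k t ht hk => by
    obtain ⟨n, hn⟩ := isPGroup_zpowers_iff.1 (isPGroup_zpowers_of_mem hR.pgroup hu)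
    obtain ⟨_ | j, -, rfl⟩ := (Nat.dvd_prime_pow Nat.prime_three).1 (hn ▸ hk)
    · simp only [pow_zero, pow_one] at ht ⊢
      refine tri _ _ a1 (fun e => hu' ?_) fun e => ?_
      · simpa [mul_assoc] using sc t _ ⟨ht, (ker _).1 e⟩ (by simpa [mul_assoc] using hu)
      have e1 : t⁻¹ * u * t * u ∈ H := (ker (⟨_, ht⟩ * ⟨u, hu⟩)).1 (by rwa [map_mul])
      obtain ⟨W, hW, hle⟩ := exists_isSylowIn_ge (H := centralizer {t⁻¹ * u * t})
        (isPGroup_zpowers_iff (p := 3).2 ⟨1, z3⟩) (zpowers_le.2 (mem_cent.2 (zc _ ht).symm))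
      obtain ⟨c, hc, hc'⟩ := hW.exists_conj_mem (x := t⁻¹ * z * t) (mem_cent.2 (by
          calc t⁻¹ * z * t * (t⁻¹ * u * t) = t⁻¹ * (z * u) * t := by group
            _ = _ := by rw [← zc u hu]; group))
        (isPGroup_zpowers_iff.2 ⟨1, by simpa using (orderOf_conj_eq t⁻¹ z).trans z3⟩)
      obtain ⟨k, -, hk⟩ := hP.exists_cj_le hW.pgroup le_top
      have k1 := hB k z z1.2 z3 (hR.le (cj_le_iff.1 hk z (hle (mem_zpowers z))))
      have k2 := hB (k * (c * t⁻¹)) z z1.2 z3 (by simpa [mul_assoc] using hR.le (cj_le_iff.1 hk _ hc'))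
      refine h.nr (hR.le hu) hu' u3 (m := c * t⁻¹) (by simpa using mul_mem (inv_mem k1) k2) ?_
      rwa [show c * t⁻¹ * u * (c * t⁻¹)⁻¹ = c * (t⁻¹ * u * t) * c⁻¹ by group, mem_cent.1 hc, mul_inv_cancel_right]
    · have e1 : u ^ 3 ^ (j + 1) ∈ H := by
        rw [pow_succ', pow_mul]
        exact pow_mem (by rwa [pow_succ, pow_two]) _
      rw [(ker _).2 (by simpa using sc t⁻¹ _ ⟨pow_mem hu _, e1⟩ (by simpa using ht)), pow_succ', pow_mul,
        pow_succ, pow_two, cube, one_pow]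
  rw [hom_triv hna] at t1
  have h4 := orderOf_dvd_of_pow_eq_one t1.symm
  rw [orderOf_eq_prime (p := 3) (by rw [pow_succ, pow_two, cube]) a1] at h4
  exact hP.not_dvd (by rwa [relIndex_top_right])

theorem main (hc : ∀ g, T3 (cj g H) (cj g M)) (P : Sylow 3 G) :
    (∀ g, g ∉ M → ¬ 3 ∣ Nat.card (M ⊓ cj g M : Subgroup G)) ∨
      (Nat.card P = 9 ∧ ∀ x ∈ (P : Subgroup G), x ^ 3 = 1) := by
  have := Fact.mk Nat.prime_three
  by_cases hB : ∀ g, ∀ z ∈ H, orderOf z = 3 → g * z * g⁻¹ ∈ M → g ∈ M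
  · exact Or.inl (h.closed hna h3 hB)
  right
  push Not at hB
  obtain ⟨g, v, hv, v3, huM, hg⟩ := hB
  have u3 := (orderOf_conj_eq g v).trans v3
  have huH : g * v * g⁻¹ ∉ H := fun e => hg (h.ti g v hv v3 e)
  have hu : g * v * g⁻¹ ∈ cj g H := conj_mem_cj.2 hv
  generalize g * v * g⁻¹ = u at u3 huH hu huM
  have pz : ∀ {a : G}, orderOf a = 3 → IsPGroup 3 (zpowers a) := fun ha => isPGroup_zpowers_iff.2 ⟨1, ha⟩
  obtain ⟨R, hR, hle⟩ := exists_isSylowIn_ge (pz u3) (zpowers_le.2 huM)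
  obtain ⟨-, -, z, z1, z3, zc⟩ := h.central hR h3
  have e := zc u (hle (mem_zpowers u))
  have nr := h.nr2 z1.2 z3 huH u3 e
  have hs : IsSylowIn 3 (zpowers z) H := by
    by_contra hs
    obtain ⟨x, x1, x2⟩ := h.grow hg (hc g) z1.2 z3 hu u3 huM e hs
    obtain ⟨y, y1, y2⟩ := (hc g).grow (g := g⁻¹) (fun e => hg (by simpa using inv_mem (mem_cj.1 e)))
      (by rwa [cj_inv_cj, cj_inv_cj]) hu u3 (by rw [cj_inv_cj]; exact z1.2) z3
      ((hc g).ti z u hu u3 (by rwa [← e, mul_inv_cancel_right])) e.symm fun e1 => by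
        have h1 := e1.cj g⁻¹
        rw [cj_inv_cj] at h1
        exact hs (h1.of_card_le (pz z3) (zpowers_le.2 z1.2) (by rw [card_cj, Nat.card_zpowers, Nat.card_zpowers, u3, z3]))
    have x3 : x * z * x⁻¹ = z := by rw [x1, mul_inv_cancel_right]
    have y3 : y⁻¹ * u * y = u := by rw [mul_assoc, ← y1, inv_mul_cancel_left]
    have y4 : y⁻¹ * z * y = u⁻¹ * z := by
      calc y⁻¹ * z * y = (y⁻¹ * u * y)⁻¹ * (y⁻¹ * (u * z) * y) := by group
        _ = _ := by rw [y3, ← y2]; group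
    have w1 : x * y⁻¹ * x * z * (x * y⁻¹ * x)⁻¹ = u⁻¹ := by
      calc x * y⁻¹ * x * z * (x * y⁻¹ * x)⁻¹ = x * (y⁻¹ * (x * z * x⁻¹) * y) * x⁻¹ := by group
        _ = x * (u⁻¹ * z) * x⁻¹ := by rw [x3, y4]
        _ = (x * u * x⁻¹)⁻¹ * (x * z * x⁻¹) := by group
        _ = _ := by rw [x2, x3]; group
    have w2 : x * y⁻¹ * x * u * (x * y⁻¹ * x)⁻¹ = z := by
      calc x * y⁻¹ * x * u * (x * y⁻¹ * x)⁻¹ = x * (y⁻¹ * (x * u * x⁻¹) * y) * x⁻¹ := by group
        _ = x * (y⁻¹ * z * y * (y⁻¹ * u * y)) * x⁻¹ := by rw [x2]; group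
        _ = x * z * x⁻¹ := by rw [y3, y4, mul_assoc u⁻¹, ← e, inv_mul_cancel_left]
        _ = z := x3
    generalize x * y⁻¹ * x = w at w1 w2
    refine nr (w * w) ?_
    calc w * w * z * (w * w)⁻¹ = w * (w * z * w⁻¹) * w⁻¹ := by group
      _ = (w * u * w⁻¹)⁻¹ := by rw [w1]; group
      _ = _ := by rw [w2]
  have h9 := card_le_nine hna (IsSylowIn.of_sylow_top P) z3 nr fun W hW hp => by
    have h1 := h.idx (fun c hc => h.ti c z z1.2 z3 (by rw [mem_cent.1 (hW hc), mul_inv_cancel_right]; exact z1.2)) hp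
    have h2 := hs.card_le (hp.to_le (inf_le_right : H ⊓ W ≤ W)) inf_le_left
    rw [Nat.card_zpowers, z3] at h2
    rw [card_eq_relIndex H W]
    rcases h1 with h1 | h1 <;> rw [h1] <;> omega
  have hcm : ∀ a ∈ zpowers z, ∀ b ∈ zpowers u, a * b = b * a := by
    rintro _ ⟨i, rfl⟩ _ ⟨j, rfl⟩
    exact (Commute.zpow_zpow e.symm i j).eq
  have hER : zpowers z ⊔ zpowers u ≤ R := sup_le (zpowers_le.2 z1.1) hle
  obtain ⟨k, -, hk⟩ := (IsSylowIn.of_sylow_top P).exists_cj_le (hR.pgroup.to_le hER) le_top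
  have c9 := card_mul_le_of_disj (le_sup_left : zpowers z ≤ zpowers z ⊔ zpowers u) le_sup_right fun x a b => by
    rcases three_cases u3 a with e | e | e
    · exact e
    · exact (huH (e ▸ zpowers_le.2 z1.2 b)).elim
    · exact (huH (inv_mem_iff.1 (e ▸ zpowers_le.2 z1.2 b))).elim
  rw [Nat.card_zpowers, Nat.card_zpowers, z3, u3, ← card_cj k] at c9
  have e1 := eq_of_le_of_card_ge hk (h9.trans c9)
  refine ⟨le_antisymm h9 (c9.trans (card_le_of_le hk)), fun x hx => ?_⟩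
  obtain ⟨_, hy, rfl⟩ := e1.ge hx
  obtain ⟨_, ⟨i, rfl⟩, _, ⟨j, rfl⟩, rfl⟩ := (mem_sup_of_comm hcm).1 hy
  have p3 : ∀ (a : G) (i : ℤ), orderOf a = 3 → (a ^ i) ^ 3 = 1 := fun a i ha => by
    rw [← zpow_natCast, ← zpow_mul, mul_comm, zpow_mul, zpow_natCast, ← ha, pow_orderOf_eq_one, one_zpow]
  rw [← map_pow, (Commute.zpow_zpow e.symm i j).mul_pow, p3 z i z3, p3 u j u3, mul_one, map_one]

end T3

end CfsgLib.Fix
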