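import Mathlib
import Cfsg.Agent.Lib.Fix.T4
import Cfsg.Agent.Lib.Fix.Tr3
import Cfsg.Agent.Lib.PDApp.Crit
import Cfsg.Agent.S1911
import Cfsg.Agent.S3224

/-!
Permutation groups in which non-trivial elements fix at most four points: the Sylow 2- and 3-subgroups.
-/

set_option autoImplicit false
set_option linter.unusedSectionVars false

namespace CfsgLib.Fix

open Subgroup MulAction Cfsg CfsgLib.Sect CfsgLib.Tech
open scoped Pointwise

variable {G Ω : Type*} [Group G] [Finite G] [MulAction G Ω] [Finite Ω]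

theorem mem_PW {Δ : Set Ω} {g : G} : g ∈ fixingSubgroup G Δ ↔ ∀ ω ∈ Δ, g • ω = ω := mem_fixingSubgroup_iff G

theorem smul_mem_SW {Δ : Set Ω} {g : G} (hg : g ∈ stabilizer G Δ) {ω : Ω} : g • ω ∈ Δ ↔ ω ∈ Δ := by
  conv_lhs => rw [← mem_stabilizer_iff.1 hg]
  exact Set.smul_mem_smul_set_iff

theorem cj_PW (g : G) (Δ : Set Ω) : cj g (fixingSubgroup G Δ) = fixingSubgroup G (g • Δ) := by
  ext x
  rw [mem_cj, mem_PW, mem_PW]
  refine ⟨fun h ω hω => ?_, fun h ω hω => ?_⟩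
  · obtain ⟨ω, hω, rfl⟩ := hω
    have := h ω hω
    rwa [mul_smul, mul_smul, inv_smul_eq_iff] at this
  · rw [mul_smul, mul_smul, h _ (Set.smul_mem_smul_set hω), inv_smul_smul]

theorem cj_SW (g : G) (Δ : Set Ω) : cj g (stabilizer G Δ) = stabilizer G (g • Δ) :=
  (stabilizer_smul_eq_stabilizer_map_conj g Δ).symm

theorem PW_le (Δ : Set Ω) : fixingSubgroup G Δ ≤ stabilizer G Δ := fun g hg => by
  refine mem_stabilizer_iff.2 (Set.ext fun ω => ⟨?_, fun h => ⟨ω, h, mem_PW.1 hg ω h⟩⟩)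
  rintro ⟨ω, h, rfl⟩
  show g • ω ∈ Δ
  rwa [mem_PW.1 hg ω h]

theorem SW_norm (Δ : Set Ω) : stabilizer G Δ ≤ normalizer (fixingSubgroup G Δ : Set G) := fun g hg => by
  rw [mem_normalizer_iff_cj, cj_PW, mem_stabilizer_iff.1 hg]

theorem card_s4 : Nat.card (Equiv.Perm (Fin 4)) = 24 := by
  rw [Nat.card_perm, Nat.card_eq_fintype_card, Fintype.card_fin]; rfl

theorem exists_hom4 {Δ : Set Ω} (h : Δ.ncard ≤ 4) : ∃ (π : stabilizer G Δ →* Equiv.Perm (Fin 4)) (e : Δ ↪ Fin 4),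
    (∀ m, π m = 1 ↔ (m : G) ∈ fixingSubgroup G Δ) ∧
      (∀ m (δ : Δ), π m (e δ) = e ⟨(m : G) • δ.1, (smul_mem_SW m.2).2 δ.2⟩) ∧
      ∀ m a, a ∉ Set.range e → π m a = a := by
  classical
  have := Fintype.ofFinite Δ
  obtain ⟨e⟩ : Nonempty (Δ ↪ Fin 4) := Function.Embedding.nonempty_of_card_le (by
    rwa [← Nat.card_eq_fintype_card, Nat.card_coe_set_eq, Fintype.card_fin])
  let ρ : stabilizer G Δ →* Equiv.Perm Δ := MonoidHom.mk'
    (fun m => (toPerm (m : G)).subtypePerm fun _ => smul_mem_SW m.2) fun a b => by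
      ext δ; exact mul_smul _ _ _
  refine ⟨(Equiv.Perm.viaEmbeddingHom e).comp ρ, e, fun m => ?_, fun m δ => Equiv.Perm.viaEmbedding_apply _ _ _,
    fun m a ha => Equiv.Perm.viaEmbedding_apply_of_notMem _ _ _ ha⟩
  rw [MonoidHom.comp_apply, map_eq_one_iff _ (Equiv.Perm.viaEmbeddingHom_injective e), mem_PW]
  exact ⟨fun h ω hω => congrArg Subtype.val (Equiv.congr_fun h ⟨ω, hω⟩), fun h => Equiv.ext fun δ =>
    Subtype.ext (h δ.1 δ.2)⟩

theorem relIndex_dvd_hom {M H U : Subgroup G} {A : Type*} [Group A] (π : M →* A) (h : ∀ m, π m = 1 ↔ (m : G) ∈ H)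
    (hU : U ≤ M) : H.relIndex U = Nat.card ((U.subgroupOf M).map π) := by
  rw [← relIndex_ker, ← relIndex_subgroupOf hU]
  congr 1
  exact Subgroup.ext fun m => (h m).symm

theorem semi_le {Δ Δ' : Set Ω} {U : Subgroup G} (h1 : U ≤ fixingSubgroup G Δ) (h2 : U ≤ stabilizer G Δ')
    (h3 : ∀ x ∈ U, x ≠ 1 → fixedBy Ω x ⊆ Δ) {ω : Ω} (hω : ω ∈ Δ' \ Δ) :
    Function.Injective (fun u : U => (u : G) • ω) ∧ (∀ u ∈ U, u • ω ∈ Δ' \ Δ) ∧ Nat.card U ≤ (Δ' \ Δ).ncard := by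
  have i1 : Function.Injective (fun u : U => (u : G) • ω) := fun a b e => by
    by_contra hne
    refine hω.2 (h3 _ (a⁻¹ * b).2 (fun e => hne (inv_mul_eq_one.1 (Subtype.ext e))) ?_)
    show ((a : G)⁻¹ * b) • ω = ω
    rw [mul_smul, inv_smul_eq_iff]
    exact e.symm
  have i2 : ∀ u ∈ U, u • ω ∈ Δ' \ Δ := fun u hu =>
    ⟨(smul_mem_SW (h2 hu)).2 hω.1, fun e => hω.2 ((smul_mem_SW (PW_le Δ (h1 hu))).1 e)⟩
  refine ⟨i1, i2, ?_⟩
  rw [← Nat.card_coe_set_eq]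
  exact Nat.card_le_card_of_injective (fun u : U => (⟨(u : G) • ω, i2 u u.2⟩ : (Δ' \ Δ : Set Ω)))
    fun a b e => i1 (congrArg Subtype.val e)

theorem exists_diff {Δ Δ' : Set Ω} (h : Δ.ncard = Δ'.ncard) (hne : Δ' ≠ Δ) : ∃ ω, ω ∈ Δ' \ Δ := by
  by_contra e
  push Not at e
  exact hne (Set.eq_of_subset_of_ncard_le (fun ω hω => by_contra fun e' => e ω ⟨hω, e'⟩) h.le)

/-- the elements of order `p` fixing `Δ` pointwise fix nothing else -/
def Mx (G : Type*) [Group G] [MulAction G Ω] (p : ℕ) (Δ : Set Ω) : Prop :=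
  ∀ x ∈ fixingSubgroup G Δ, orderOf x = p → fixedBy Ω x = Δ

theorem mx_of_max {p : ℕ} {t : G} (h : ∀ g : G, orderOf g = p → Nat.card (fixedBy Ω g) ≤ Nat.card (fixedBy Ω t)) :
    Mx G p (fixedBy Ω t) := fun x hx hp =>
  (Set.eq_of_subset_of_ncard_le (fun ω hω => mem_PW.1 hx ω hω) (h x hp)).symm

namespace Mx

variable {p : ℕ} {Δ : Set Ω} (h : Mx G p Δ)
include h

theorem smul (g : G) : Mx G p (g • Δ) := fun x hx hp => by
  rw [← cj_PW, mem_cj] at hx
  rw [← h _ hx (by simpa using (orderOf_conj_eq g⁻¹ x).trans hp), smul_fixedBy]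
  congr 1; group

theorem ti {g x : G} (hx : x ∈ fixingSubgroup G Δ) (hp : orderOf x = p) (e : g * x * g⁻¹ ∈ fixingSubgroup G Δ) :
    g ∈ stabilizer G Δ := by
  rw [mem_stabilizer_iff]
  conv_lhs => rw [← h x hx hp, smul_fixedBy, h _ e ((orderOf_conj_eq g x).trans hp)]

theorem sub [Fact p.Prime] {U : Subgroup G} (hU : IsPGroup p U) (h1 : U ≤ fixingSubgroup G Δ) :
    ∀ x ∈ U, x ≠ 1 → fixedBy Ω x ⊆ Δ := fun x hx x1 => by
  obtain ⟨⟨_, i, rfl⟩, w3⟩ := exists_prime_orderOf_dvd_card' (G := zpowers x) p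
    ((isPGroup_zpowers_of_mem hU hx).card_eq_or_dvd.resolve_left (by simpa using x1))
  rw [← orderOf_coe] at w3
  exact (fixedBy_subset_fixedBy_zpow Ω x i).trans (h _ (h1 (U.zpow_mem hx i)) w3).le

theorem semi [Fact p.Prime] {g : G} (hg : g ∉ stabilizer G Δ) {U : Subgroup G} (hU : IsPGroup p U)
    (h1 : U ≤ fixingSubgroup G Δ ⊓ stabilizer G (g • Δ)) : Nat.card U ≤ Δ.ncard := by
  obtain ⟨ω, hω⟩ := exists_diff (Set.ncard_smul_set g Δ).symm hg
  exact (semi_le (h1.trans inf_le_left) (h1.trans inf_le_right) (h.sub hU (h1.trans inf_le_left)) hω).2.2.trans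
    ((Set.ncard_le_ncard Set.sdiff_subset).trans (Set.ncard_smul_set g Δ).le)

end Mx

theorem SW_ne_top [FaithfulSMul G Ω] (htr : IsPretransitive G Ω) {t : G} (t1 : t ≠ 1)
    (h : (fixedBy Ω t).Nonempty) : stabilizer G (fixedBy Ω t) ≠ ⊤ := fun e => by
  obtain ⟨a, ha⟩ := h
  refine t1 (eq_of_smul_eq_smul (α := Ω) fun b => ?_)
  obtain ⟨g, rfl⟩ := htr.exists_smul_eq a b
  rw [one_smul]
  exact (smul_mem_SW (e.ge (mem_top g))).2 ha

theorem quasi_equiv {A B : Type*} [Group A] [Group B] (e : A ≃* B) (h : IsQuasiDihedral A) : IsQuasiDihedral B := by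
  obtain ⟨n, h1, h2, x, y, h3, h4, h5⟩ := h
  exact ⟨n, h1, (Nat.card_congr e.toEquiv).symm.trans h2, e x, e y, by simpa using h3, by simpa using h4,
    by rw [← map_inv, ← map_mul, ← map_mul, h5, map_pow]⟩

/-- a self-centralising four-group -/
theorem dih_of_four (S S' : Sylow 2 G) {t u : G} (ht : t ∈ (S : Subgroup G)) (hu : u ∈ (S : Subgroup G))
    (t2 : orderOf t = 2) (u2 : orderOf u = 2) (hne : t ≠ u) (e : t * u = u * t)
    (hc : ∀ c ∈ (S : Subgroup G), t * c = c * t → u * c = c * u → c = 1 ∨ c = t ∨ c = u ∨ c = t * u) :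
    (∃ n : ℕ, Nonempty ((S' : Subgroup G) ≃* DihedralGroup n)) ∨ IsQuasiDihedral (S' : Subgroup G) := by
  have tt := mul_self_of_orderOf_two t2
  have uu := mul_self_of_orderOf_two u2
  have t1 := ne_one_of_orderOf_two t2
  have hcu : ∀ a ∈ zpowers t, a * u = u * a := fun a ha => by
    rcases (mem_zpowers_two tt).1 ha with rfl | rfl
    exacts [by simp, e]
  have huz : u ∉ zpowers t := fun h => ((mem_zpowers_two tt).1 h).elim (ne_one_of_orderOf_two u2) hne.symm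
  have hU2 := sq_sup uu (fun a ha => by rcases (mem_zpowers_two tt).1 ha with rfl | rfl <;> simp [tt]) hcu
  have hU4 := card_sup_two uu huz hcu
  rw [card_zpowers_two tt t1] at hU4
  have hle : zpowers t ⊔ zpowers u ≤ S := sup_le (zpowers_le.2 ht) (zpowers_le.2 hu)
  have htU : t ∈ zpowers t ⊔ zpowers u := mem_sup_left (mem_zpowers t)
  have huU : u ∈ zpowers t ⊔ zpowers u := mem_sup_right (mem_zpowers u)
  have key : ∀ x ∈ zpowers t ⊔ zpowers u, x ≠ 1 →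
      (∀ c ∈ (S : Subgroup G), x * c = c * x → t * c = c * t ∧ u * c = c * u) →
      (∃ n : ℕ, Nonempty ((S : Subgroup G) ≃* DihedralGroup n)) ∨ IsQuasiDihedral (S : Subgroup G) :=
    fun x hx x1 h => by
      have h4 : centralizer {(⟨x, hle hx⟩ : S)} = (zpowers t ⊔ zpowers u).subgroupOf S := by
        ext c
        rw [mem_cent, mem_subgroupOf]
        refine ⟨fun e => ?_, fun e => Subtype.ext (comm_of_sq hU2 e hx)⟩
        obtain ⟨e1, e2⟩ := h c c.2 (congrArg Subtype.val e).symm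
        rcases hc c c.2 e1 e2 with e | e | e | e <;> rw [e]
        exacts [one_mem _, htU, huU, mul_mem htU huU]
      rcases Cfsg.Agent.S3224.result S.isPGroup' ⟨x, hle hx⟩
        (by rw [← orderOf_coe]; exact orderOf_two_of_mul_self (hU2 x hx) x1)
        (by rw [h4, Nat.card_congr (subgroupOfEquivOfLe hle).toEquiv, hU4]) with h | h | h
      · exact Or.inl h
      · exact Or.inr h
      · have e4 := eq_of_le_of_card_ge hle (by rw [h, hU4])
        have : IsKleinFour (S : Subgroup G) := ⟨h, by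
          have : Nontrivial (S : Subgroup G) := ⟨⟨⟨t, ht⟩, ⟨u, hu⟩, fun e => hne (congrArg Subtype.val e)⟩⟩
          exact (Monoid.exponent_eq_prime_iff Nat.prime_two).2 fun g g1 => by
            rw [← orderOf_coe]
            exact orderOf_two_of_mul_self (hU2 g (e4.ge g.2)) fun e => g1 (Subtype.ext e)⟩
        exact Or.inl ⟨2, IsKleinFour.nonempty_mulEquiv⟩
  have main : (∃ n : ℕ, Nonempty ((S : Subgroup G) ≃* DihedralGroup n)) ∨ IsQuasiDihedral (S : Subgroup G) := by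
    obtain ⟨z, hz, z1, zc⟩ := exists_cent_of_norm S.isPGroup' le_rfl
      (fun g hg x hx => mul_mem (mul_mem hg hx) (inv_mem hg)) fun e => t1 (by simpa [e] using ht)
    rcases hc z hz (zc t ht) (zc u hu) with e1 | e1 | e1 | e1
    · exact (z1 e1).elim
    · exact key u huU (ne_one_of_orderOf_two u2) fun c hc e => ⟨e1 ▸ (zc c hc).symm, e⟩
    · exact key t htU t1 fun c hc e => ⟨e, e1 ▸ (zc c hc).symm⟩
    · refine key t htU t1 fun c hc e => ⟨e, mul_left_cancel (a := t) ?_⟩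
      rw [← mul_assoc, ← e1, ← zc c hc, e1, ← mul_assoc, ← mul_assoc, e]
  exact main.imp (fun ⟨n, ⟨f⟩⟩ => ⟨n, ⟨(S'.equiv S).trans f⟩⟩) (quasi_equiv (S.equiv S'))

theorem t4_of {Δ : Set Ω} (h4 : Δ.ncard = 4) (hfix : ∀ g : G, g ≠ 1 → Nat.card (fixedBy Ω g) ≤ 4) :
    (∀ x ∈ fixingSubgroup G Δ, x ≠ 1 → fixedBy Ω x = Δ) ∧ T4 (fixingSubgroup G Δ) (stabilizer G Δ) := by
  classical
  have h1 : ∀ x ∈ fixingSubgroup G Δ, x ≠ 1 → fixedBy Ω x = Δ := fun x hx x1 =>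
    (Set.eq_of_subset_of_ncard_le (fun ω hω => mem_PW.1 hx ω hω) (h4 ▸ hfix x x1)).symm
  obtain ⟨π, e, h2, -, -⟩ := exists_hom4 (G := G) h4.le
  refine ⟨h1, PW_le Δ, SW_norm Δ, fun x hx x1 c e => ?_, fun x => if h : x ∈ stabilizer G Δ then π ⟨x, h⟩ else 1,
    fun x hx y hy => ?_, fun x hx => ?_⟩
  · rw [mem_stabilizer_iff, ← h1 x hx x1, smul_fixedBy, ← e, mul_inv_cancel_right]
  · simp only [dif_pos hx, dif_pos hy, dif_pos (mul_mem hx hy), ← map_mul]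
    rfl
  · simp only [dif_pos hx, h2]

theorem half_p4 {Δ Δ' : Set Ω} (h4 : Δ.ncard = 4) (h4' : Δ'.ncard = 4) (hne : Δ ≠ Δ')
    (hfix : ∀ g : G, g ≠ 1 → Nat.card (fixedBy Ω g) ≤ 4) :
    Nat.card (fixingSubgroup G Δ' ⊓ stabilizer G Δ : Subgroup G) ≤ 4 ∧
      (Nat.card (fixingSubgroup G Δ' ⊓ stabilizer G Δ : Subgroup G) = 4 → ∀ c ∈ stabilizer G Δ,
        (∀ y ∈ fixingSubgroup G Δ' ⊓ stabilizer G Δ, y * c = c * y) →
          ∃ y ∈ fixingSubgroup G Δ' ⊓ stabilizer G Δ, y⁻¹ * c ∈ fixingSubgroup G Δ) := by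
  obtain ⟨ω, hω⟩ := exists_diff (h4'.trans h4.symm) hne
  obtain ⟨i1, i2, i3⟩ := semi_le (U := fixingSubgroup G Δ' ⊓ stabilizer G Δ) inf_le_left inf_le_right
    (fun x hx x1 => ((t4_of h4' hfix).1 x hx.1 x1).le) hω
  refine ⟨i3.trans ((Set.ncard_le_ncard Set.sdiff_subset).trans h4.le), fun e c hc hcm => ?_⟩
  have sj : ∀ δ ∈ Δ, ∃ y ∈ fixingSubgroup G Δ' ⊓ stabilizer G Δ, y • ω = δ := fun δ hδ => by
    obtain ⟨y, hy⟩ := ((Nat.bijective_iff_injective_and_card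
      (fun u : (fixingSubgroup G Δ' ⊓ stabilizer G Δ : Subgroup G) => (⟨(u : G) • ω, (i2 u u.2).1⟩ : Δ))).2
      ⟨fun a b e => i1 (congrArg Subtype.val e), by rw [e, Nat.card_coe_set_eq, h4]⟩).2 ⟨δ, hδ⟩
    exact ⟨y, y.2, congrArg Subtype.val hy⟩
  have := Fact.mk Nat.prime_two
  have ab := PGroup.isMulCommutative_iff.1 (IsPGroup.isMulCommutative_of_card_eq_prime_sq (p := 2) e)
  obtain ⟨y, hy, e1⟩ := sj _ ((smul_mem_SW hc).2 hω.1)
  refine ⟨y, hy, mem_PW.2 fun δ hδ => ?_⟩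
  obtain ⟨v, hv, rfl⟩ := sj δ hδ
  rw [mul_smul, inv_smul_eq_iff, ← mul_smul, ← hcm v hv, mul_smul, ← e1, ← mul_smul, ← mul_smul, ab v hv y hy]

section simple

variable [IsSimpleGroup G] (hna : ¬ IsMulCommutative G) [FaithfulSMul G Ω] (htr : IsPretransitive G Ω)
  (hfix : ∀ g : G, g ≠ 1 → Nat.card (fixedBy Ω g) ≤ 4)
include htr hfix

theorem two_part {t : G} (t2 : orderOf t = 2)
    (hm : ∀ g : G, orderOf g = 2 → Nat.card (fixedBy Ω g) ≤ Nat.card (fixedBy Ω t))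
    (h1 : 1 ≤ Nat.card (fixedBy Ω t)) (S : Sylow 2 G) : (∃ H : Subgroup G, IsStronglyEmbedded H) ∨
      (Nat.card (fixedBy Ω t) ≤ 3 ∧
        ((∃ n : ℕ, Nonempty ((S : Subgroup G) ≃* DihedralGroup n)) ∨ IsQuasiDihedral (S : Subgroup G))) ∨
      (Nat.card (fixedBy Ω t) = 4 ∧ SectionalPRankLE 2 4 G) := by
  have mx := mx_of_max hm
  have t1 := ne_one_of_orderOf_two t2
  have hM := SW_ne_top htr t1 (Set.nonempty_coe_sort.1 (Nat.card_pos_iff.1 h1).1)
  have h4 := hfix t t1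
  rw [Nat.card_coe_set_eq] at h4 ⊢
  have ht : t ∈ fixingSubgroup G (fixedBy Ω t) := mem_PW.2 fun _ h => h
  generalize fixedBy Ω t = Δ at mx hM h4 ht
  have hN : normalizer (fixingSubgroup G Δ : Set G) = stabilizer G Δ :=
    le_antisymm (fun g hg => mx.ti ht t2 (conj_mem_of_mem_normalizer hg ht)) (SW_norm Δ)
  by_cases hodd : ∀ g, g ∉ stabilizer G Δ →
      Odd (Nat.card (cj g (fixingSubgroup G Δ) ⊓ stabilizer G Δ : Subgroup G))
  · left
    rcases Cfsg.Agent.S1911.result (fixingSubgroup G Δ) ⟨even_card_of_involution ht t2, fun g hg =>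
      odd_card_iff_no_involution.2 fun x hx x2 => hg (hN ▸ by
        simpa using inv_mem (mx.ti (g := g⁻¹) hx.1 x2 (by simpa using mem_cj.1 hx.2)))⟩ (hN ▸ hodd) with e | e
    · exact (hM (hN ▸ normalizer_eq_top_iff.2 e)).elim
    · exact ⟨_, PDApp.se_of_subgroupOf_top ((normalClosure_normal.eq_bot_or_eq_top).resolve_left fun e =>
        t1 (by simpa [e] using subset_normalClosure ht)) e⟩
  right
  push Not at hodd
  obtain ⟨g, hg, hu⟩ := hodd
  obtain ⟨u, hu, u2⟩ := exists_involution_of_even (Nat.not_odd_iff_even.1 hu)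
  rw [cj_PW] at hu
  by_cases e4 : Δ.ncard = 4
  · have e4' := (Set.ncard_smul_set g Δ).trans e4
    have a := half_p4 e4 e4' (Ne.symm hg) hfix
    have b := half_p4 e4' e4 hg hfix
    exact Or.inr ⟨e4, sr_top_iff.2 (P4.sr ⟨(t4_of e4 hfix).2, (t4_of e4' hfix).2, fun x h1 h2 => by_contra fun x1 =>
      hg (((t4_of e4' hfix).1 x h2 x1).symm.trans ((t4_of e4 hfix).1 x h1 x1)), a.1, b.1, a.2, b.2,
      g, (cj_PW g Δ).symm⟩ hu u2)⟩
  refine Or.inl ⟨by omega, ?_⟩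
  obtain ⟨R, hR, hle⟩ := exists_isSylowIn_ge (p := 2) (isPGroup_two_zpowers (mul_self_of_orderOf_two u2))
    (zpowers_le.2 hu.2)
  have hQ := hR.inf_of_le_normalizer (SW_norm Δ)
  obtain ⟨k, -, hk⟩ := hQ.exists_conj_mem ⟨PW_le Δ ht, ht⟩ (isPGroup_two_zpowers (mul_self_of_orderOf_two t2))
  obtain ⟨z, hz, z2, zc⟩ := exists_mem_center_of_normalized (N := R ⊓ fixingSubgroup G Δ) hR.pgroup inf_le_left
    (fun r hr => mem_normalizer_of_forall fun x hx => ⟨R.mul_mem (R.mul_mem hr hx.1) (R.inv_mem hr),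
      conj_mem_of_mem_normalizer (SW_norm Δ (hR.le hr)) hx.2⟩) fun e => by
      rw [e, mem_bot] at hk
      exact ne_one_of_orderOf_two ((orderOf_conj_eq k _).trans t2) hk
  obtain ⟨S₀, hS⟩ := hR.pgroup.exists_le_sylow
  have huR := hle (mem_zpowers u)
  have huH : u ∉ fixingSubgroup G Δ := fun e => hg (((mx.smul g) u hu.1 u2).symm.trans (mx u e u2))
  refine dih_of_four S₀ S (hS hz.1) (hS huR) z2 u2 (fun e => huH (e ▸ hz.2)) (zc u huR).symm fun c hc e1 e2 => ?_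
  have hcM : c ∈ stabilizer G Δ := mx.ti hz.2 z2 (by rw [← e1, mul_inv_cancel_right]; exact hz.2)
  have small : ∀ d ∈ (S₀ : Subgroup G), d ∈ fixingSubgroup G Δ → u * d = d * u → d = 1 ∨ d = z := fun d d1 d2 d3 => by
    have hp : IsPGroup 2 ((S₀ : Subgroup G) ⊓ (fixingSubgroup G Δ ⊓ stabilizer G (g • Δ)) : Subgroup G) :=
      S₀.isPGroup'.to_le inf_le_left
    have k : ∀ d, u * d = d * u → d ∈ stabilizer G (g • Δ) := fun d e =>
      (mx.smul g).ti hu.1 u2 (by rw [← e, mul_inv_cancel_right]; exact hu.1)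
    exact two_cases (card_le_pow hp 1 ((mx.semi hg hp inf_le_right).trans_lt (by omega)))
      ⟨hS hz.1, hz.2, k z (zc u huR)⟩ (ne_one_of_orderOf_two z2) ⟨d1, d2, k d d3⟩
  by_cases e3 : c ∈ fixingSubgroup G Δ
  · exact (small c hc e3 e2).imp id Or.inl
  have i2 : (fixingSubgroup G Δ).relIndex ((S₀ : Subgroup G) ⊓ stabilizer G Δ) ≤ 2 := by
    obtain ⟨π, e, p1, -, p3⟩ := exists_hom4 (G := G) h4
    obtain ⟨a, ha⟩ : ∃ a, a ∉ Set.range e := by
      by_contra h5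
      push Not at h5
      have := Nat.card_le_card_of_surjective e h5
      rw [Nat.card_coe_set_eq] at this
      simp at this
      omega
    refine relIndex_le_pow (S₀.isPGroup'.to_le inf_le_left) 1 ?_
    have d1 : (fixingSubgroup G Δ).relIndex ((S₀ : Subgroup G) ⊓ stabilizer G Δ) ∣
        Nat.card (stabilizer (Equiv.Perm (Fin 4)) a) := by
      rw [relIndex_dvd_hom π p1 inf_le_right]
      refine card_dvd_of_le ?_
      rintro _ ⟨m, -, rfl⟩
      exact p3 m a ha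
    have d2 : Nat.card (stabilizer (Equiv.Perm (Fin 4)) a) = 6 := by
      have := (stabilizer (Equiv.Perm (Fin 4)) a).card_mul_index
      rw [index_stabilizer_of_transitive, card_s4, Nat.card_eq_fintype_card (α := Fin 4), Fintype.card_fin] at this
      omega
    obtain ⟨n, hn⟩ := (S₀.isPGroup'.to_le (inf_le_left : _ ⊓ stabilizer G Δ ≤ _)).exists_card_eq
    obtain ⟨i, -, hi⟩ := (Nat.dvd_prime_pow Nat.prime_two).1 (hn ▸ relIndex_dvd_card (fixingSubgroup G Δ) _)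
    rw [d2, hi] at d1
    rw [hi]
    rcases i with _ | _ | i
    · simp
    · simp
    · exact absurd ((pow_dvd_pow 2 (by omega : 2 ≤ i + 1 + 1)).trans d1) (by norm_num)
  have uu := mul_self_of_orderOf_two u2
  rcases small (c * u) (mul_mem hc (hS huR)) (mul_mem_of_le_two i2 ⟨hc, hcM⟩ ⟨hS huR, hu.2⟩ e3 huH)
    (by rw [← mul_assoc, e2]) with e | e
  · exact Or.inr (Or.inr (Or.inl (by rw [← mul_one c, ← uu, ← mul_assoc, e, one_mul])))
  · exact Or.inr (Or.inr (Or.inr (by rw [← e, mul_assoc, uu, mul_one])))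

omit htr hfix in
theorem s4_three : ∀ y m : Equiv.Perm (Fin 4), y ≠ 1 → y * y * y = 1 →
    ∃ a, y a ≠ a ∧ (m a = a ∨ y (m a) = a ∨ y (y (m a)) = a) := by decide

omit htr hfix in
theorem t3_of {Δ : Set Ω} (mx : Mx G 3 Δ) (h4 : Δ.ncard ≤ 4) (hodd : ∀ a : Ω, Odd (Nat.card (stabilizer G a))) :
    T3 (fixingSubgroup G Δ) (stabilizer G Δ) := by
  have := Fact.mk Nat.prime_three
  obtain ⟨π, e, p1, p2, p3⟩ := exists_hom4 (G := G) h4
  refine ⟨PW_le Δ, SW_norm Δ, fun g x hx x3 => mx.ti hx x3, fun U hU => ?_, fun y hy hy' y3 m hm => ?_,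
    fun g hg U hU hp => ?_⟩
  · rw [relIndex_dvd_hom π p1 hU]
    exact card_s4 ▸ card_subgroup_dvd_card ((U.subgroupOf _).map π)
  · obtain ⟨a, h1, h2⟩ := s4_three (π ⟨y, hy⟩) (π ⟨m, hm⟩) (fun e => hy' ((p1 _).1 e))
      (by rw [← map_mul, ← map_mul]; exact (p1 _).2 y3)
    obtain ⟨δ, rfl⟩ : a ∈ Set.range e := by_contra fun h => h1 (p3 _ a h)
    simp only [p2, e.injective.eq_iff, Subtype.ext_iff] at h2
    have key : ∀ w : G, w • δ.1 = δ.1 → Odd (orderOf w) := fun w hw =>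
      Odd.of_dvd_nat (hodd δ.1) (orderOf_dvd_natCard _ (mem_stabilizer_iff.2 hw))
    rcases h2 with h2 | h2 | h2
    · exact ⟨0, key _ (by simpa using h2)⟩
    · exact ⟨1, key _ (by simpa [mul_smul] using h2)⟩
    · exact ⟨2, key _ (by simpa [mul_smul, pow_two] using h2)⟩
  · have h1 := mx.semi hg hp (cj_SW g Δ ▸ hU)
    obtain ⟨n, hn⟩ := hp.exists_card_eq
    rw [hn] at h1 ⊢
    rcases n with _ | _ | n
    · simp
    · simp
    · have := Nat.pow_le_pow_right (by norm_num : 0 < 3) (by omega : 2 ≤ n + 1 + 1)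
      omega

include hna in
theorem three_part (hodd : ∀ a : Ω, Odd (Nat.card (stabilizer G a))) {a : Ω} (h3 : 3 ∣ Nat.card (stabilizer G a))
    (P : Sylow 3 G) : (∃ H : Subgroup G, H ≠ ⊤ ∧ 3 ∣ Nat.card H ∧
      ∀ g : G, g ∉ H → ¬ 3 ∣ Nat.card (H ⊓ cj g H : Subgroup G)) ∨
      (Nat.card P = 9 ∧ ∀ x ∈ (P : Subgroup G), x ^ 3 = 1) := by
  have := Fact.mk Nat.prime_three
  obtain ⟨⟨x, hx⟩, x3⟩ := exists_prime_orderOf_dvd_card' 3 h3
  rw [← orderOf_coe] at x3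
  obtain ⟨t, t3, hm⟩ := Set.exists_max_image {g : G | orderOf g = 3} (fun g => Nat.card (fixedBy Ω g))
    (Set.toFinite _) ⟨x, x3⟩
  have mx := mx_of_max hm
  have t1 : t ≠ 1 := fun e => by simp [e] at t3
  have h1 : 0 < Nat.card (fixedBy Ω t) := (Nat.card_pos_iff.2 ⟨⟨⟨a, hx⟩⟩, inferInstance⟩).trans_le (hm x x3)
  have hM := SW_ne_top htr t1 (Set.nonempty_coe_sort.1 (Nat.card_pos_iff.1 h1).1)
  have h4 := hfix t t1
  rw [Nat.card_coe_set_eq] at h4
  have d3 : 3 ∣ Nat.card (fixingSubgroup G (fixedBy Ω t)) :=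
    (show orderOf t = 3 from t3) ▸ orderOf_dvd_natCard _ (mem_PW.2 fun _ h => h)
  exact ((t3_of mx h4 hodd).main hna d3 (fun g => by
    rw [cj_PW, cj_SW]
    exact t3_of (mx.smul g) ((Set.ncard_smul_set g _).trans_le h4) hodd) P).imp_left fun h =>
      ⟨_, hM, d3.trans (card_dvd_of_le (PW_le _)), h⟩

end simple

end CfsgLib.Fix
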