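import Mathlib
import Cfsg.Agent.Lib.Fix.Act
import Cfsg.Agent.Lib.Transfer.Thompson

/-!
Permutation groups in which non-trivial elements fix at most two points: the Sylow 2-subgroups.
-/

set_option autoImplicit false
set_option linter.unusedSectionVars false

namespace CfsgLib.Fix

open Subgroup MulAction Cfsg CfsgLib.Sect CfsgLib.Tech

variable {G Ω : Type*} [Group G] [Finite G] [MulAction G Ω] [Finite Ω]
  (hfix : ∀ g : G, g ≠ 1 → Nat.card (fixedBy Ω g) ≤ 2)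
include hfix

theorem fix2 {α β γ : Ω} (hne : α ≠ β) {x : G} (x1 : x ≠ 1) (h1 : x • α = α) (h2 : x • β = β) (h3 : x • γ = γ) :
    γ = α ∨ γ = β := by
  have e : ({α, β} : Set Ω) = fixedBy Ω x := Set.eq_of_subset_of_ncard_le
    (by rintro _ (rfl | rfl); exacts [h1, h2]) (by rw [Set.ncard_pair hne]; exact hfix x x1)
  exact (e.symm ▸ h3 : γ ∈ ({α, β} : Set Ω))

/-- the Frobenius subgroup of index two -/
theorem frob2 [FaithfulSMul G Ω] (htr : IsPretransitive G Ω) {S : Subgroup G} (hS : ¬ 2 ∣ S.index) {α : Ω} {s z : G}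
    (hs : s ∈ S) (hne : α ≠ s • α) (z1 : z ≠ 1) (hz : z • α = α) (hz' : z • s • α = s • α)
    (h2 : (stabilizer G α).relIndex S = 2) (hf : ∀ u ∈ S, ∀ γ : Ω, u • γ = γ → u • α = α) :
    ∃ N : Subgroup G, N.Normal ∧ N.index = 2 ∧ ∃ H : Subgroup N, IsFrobeniusComplement H := by
  obtain ⟨ϕ, hϕ⟩ := Transfer.exists_hom_of_relIndex_two h2
  have a2 : (Multiplicative.ofAdd (1 : ZMod 2)) ^ 2 = 1 := by decide
  have k1 : ∀ (x : G) (γ : Ω), x • γ = γ → x ∈ (MonoidHom.transfer ϕ).ker := fun x γ e => by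
    rw [MonoidHom.mem_ker, Transfer.transfer_eq_pow_of_forall ϕ x 1, one_pow]
    intro k t h _
    rw [one_pow]
    refine (hϕ ⟨_, h⟩).1 (hf _ h (t⁻¹ • γ) ?_)
    rw [mul_smul, smul_inv_smul, mul_smul, show x ^ k • γ = γ from (stabilizer G γ).pow_mem e k]
  have ss : ∀ k : ℕ, s ^ k ∈ stabilizer G α ↔ Even k := fun k => by
    have := (hϕ ⟨s, hs⟩).2 hne.symm
    have e1 : ϕ ⟨s ^ k, S.pow_mem hs k⟩ = Multiplicative.ofAdd (1 : ZMod 2) ^ k := by rw [← this, ← map_pow]; rfl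
    obtain ⟨m, rfl | rfl⟩ := Nat.even_or_odd' k
    · refine iff_of_true (by_contra fun h => ?_) (by simp)
      rw [(hϕ ⟨_, _⟩).2 h, pow_mul, a2, one_pow] at e1
      exact absurd e1 (by decide)
    · refine iff_of_false (fun h => ?_) (by simp)
      rw [(hϕ ⟨_, _⟩).1 h, pow_succ, pow_mul, a2, one_pow, one_mul] at e1
      exact absurd e1 (by decide)
  have k2 : MonoidHom.transfer ϕ s = Multiplicative.ofAdd 1 := by
    rw [Transfer.transfer_eq_pow_of_forall ϕ s (Multiplicative.ofAdd 1)]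
    · obtain ⟨m, hm⟩ := Nat.odd_iff.2 (Nat.two_dvd_ne_zero.1 hS)
      rw [hm, pow_succ, pow_mul, a2, one_pow, one_mul]
    intro k t h _
    obtain ⟨m, rfl | rfl⟩ := Nat.even_or_odd' k
    · rw [pow_mul (Multiplicative.ofAdd (1 : ZMod 2)), a2, one_pow]
      refine (hϕ ⟨_, h⟩).1 (hf _ h (t⁻¹ • α) ?_)
      rw [mul_smul, smul_inv_smul, mul_smul, show s ^ (2 * m) • α = α from (ss _).2 (by simp)]
    · rw [pow_succ (Multiplicative.ofAdd (1 : ZMod 2)), pow_mul (Multiplicative.ofAdd (1 : ZMod 2)), a2, one_pow,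
        one_mul]
      refine (hϕ ⟨_, h⟩).2 fun e => ?_
      have e1 : s ^ (2 * m + 1) • t • α = t • α := by
        rw [mem_stabilizer_iff, mul_smul, mul_smul, inv_smul_eq_iff] at e; exact e
      simpa using (ss _).1 (hf _ (S.pow_mem hs _) _ e1)
  have k3 : s ∉ (MonoidHom.transfer ϕ).ker := by rw [MonoidHom.mem_ker, k2]; decide
  refine ⟨(MonoidHom.transfer ϕ).ker, inferInstance, ?_,
    (stabilizer G α ⊓ stabilizer G (s • α)).subgroupOf _, fun e => z1 ?_, fun e => z1 ?_, fun n hn => ?_⟩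
  · rw [index_ker, (MonoidHom.range_eq_top).2 fun y => ?_, card_top]
    · simp
    · have : ∀ y : Multiplicative (ZMod 2), y = 1 ∨ y = Multiplicative.ofAdd 1 := by decide
      rcases this y with rfl | rfl
      exacts [⟨1, map_one _⟩, ⟨s, k2⟩]
  · exact congrArg Subtype.val ((eq_bot_iff_forall _).1 e ⟨z, k1 z α hz⟩ ⟨hz, hz'⟩)
  · refine eq_of_smul_eq_smul (α := Ω) fun b => ?_
    obtain ⟨g, rfl⟩ := htr.exists_smul_eq α b
    have : (g⁻¹ * z * g) • α = α := (subgroupOf_eq_top.1 e ((MonoidHom.normal_ker _).conj_mem' z (k1 z α hz) g)).1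
    rw [mul_smul, mul_smul, inv_smul_eq_iff] at this
    rw [this, one_smul]
  · refine (eq_bot_iff_forall _).2 fun x hx => by_contra fun x1 => hn ?_
    obtain ⟨h1, h3⟩ := mem_inf.1 hx
    rw [Subgroup.mem_pointwise_smul_iff_inv_smul_mem] at h3
    have h4 : ∀ γ : Ω, ((n : G)⁻¹ * x * n) • γ = γ → (n : G) • γ = α ∨ (n : G) • γ = s • α := fun γ e =>
      fix2 hfix hne (fun e => x1 (Subtype.ext e)) h1.1 h1.2 (by rwa [mul_smul, mul_smul, inv_smul_eq_iff] at e)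
    have h5 : (n : G) • α = α := (h4 α (by simpa [mul_assoc] using h3.1)).resolve_right fun e => k3 (by
      have := mul_mem n.2 (k1 ((n : G)⁻¹ * s) α (by rw [mul_smul, ← e, inv_smul_smul]))
      rwa [mul_inv_cancel_left] at this)
    exact ⟨h5, (h4 _ (by simpa [mul_assoc] using h3.2)).resolve_left fun e => hne
      (smul_left_cancel (n : G) (h5.trans e.symm))⟩

theorem fix_two [FaithfulSMul G Ω] (htr : IsPretransitive G Ω) (α : Ω) (S : Sylow 2 G)
    (h1 : (S : Subgroup G) ⊓ stabilizer G α ≠ ⊥) (h2 : ¬ (S : Subgroup G) ≤ stabilizer G α) :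
    (((∃ n : ℕ, Nonempty ((S : Subgroup G) ≃* DihedralGroup n)) ∨ IsQuasiDihedral (S : Subgroup G)) ∧
       (Nat.card ((S : Subgroup G) ⊓ stabilizer G α : Subgroup G) = 2 ∨
        ((S : Subgroup G) ⊓ stabilizer G α).relIndex (S : Subgroup G) = 2)) ∨
    (4 ≤ Nat.card (S : Subgroup G) ∧
       (∃ ω : Ω, Nat.card (orbit (S : Subgroup G) ω) = 2 ∧
          ∀ ω' : Ω, ω' ∉ orbit (S : Subgroup G) ω → Nat.card (orbit (S : Subgroup G) ω') = Nat.card (S : Subgroup G)) ∧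
       ∃ N : Subgroup G, N.Normal ∧ N.index = 2 ∧ ∃ H : Subgroup N, IsFrobeniusComplement H) := by
  have := Fact.mk Nat.prime_two
  obtain ⟨s, hs, s1, s2⟩ := exists_mem_normalizer_of_lt S.isPGroup'
    (lt_of_le_of_ne (inf_le_left : _ ⊓ stabilizer G α ≤ _) fun e => h2 (e.ge.trans inf_le_right))
  have hne : α ≠ s • α := fun e => s1 ⟨hs, e.symm⟩
  generalize hQ : (S : Subgroup G) ⊓ stabilizer G α = Q at h1 s1 s2
  have mQ : ∀ {q : G}, q ∈ Q ↔ q ∈ (S : Subgroup G) ∧ q • α = α := by rw [← hQ]; exact Iff.rfl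
  have hβ : ∀ q ∈ Q, q • s • α = s • α := fun q hq => by
    have := (mQ.1 (conj_mem_of_mem_normalizer' s2 hq)).2
    rwa [mul_smul, mul_smul, inv_smul_eq_iff] at this
  have fx : ∀ q ∈ Q, q ≠ 1 → ∀ γ, q • γ = γ → γ = α ∨ γ = s • α := fun q hq q1 γ =>
    fix2 hfix hne q1 (mQ.1 hq).2 (hβ q hq)
  generalize hR : (S : Subgroup G) ⊓ normalizer (Q : Set G) = R
  have mR : ∀ {q : G}, q ∈ R ↔ q ∈ (S : Subgroup G) ∧ q ∈ normalizer (Q : Set G) := by rw [← hR]; exact Iff.rfl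
  have hRS : R ≤ S := fun _ h => (mR.1 h).1
  have hQR : Q ≤ R := fun q h => mR.2 ⟨(mQ.1 h).1, le_normalizer h⟩
  obtain ⟨z, hz, z2, zc⟩ := exists_mem_center_of_normalized (S.isPGroup'.to_le hRS) hQR (fun _ h => (mR.1 h).2) h1
  have z1 := ne_one_of_orderOf_two z2
  -- elements of `S` mapping `α` to `α` or `β`
  have ti : ∀ g ∈ (S : Subgroup G), ∀ x ∈ Q, x ≠ 1 → g⁻¹ * x * g ∈ Q → g ∈ Q ∨ s⁻¹ * g ∈ Q := fun g hg x hx x1 e => by
    have e1 := (mQ.1 e).2
    rw [mul_smul, mul_smul, inv_smul_eq_iff] at e1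
    exact (fx x hx x1 _ e1).imp (fun h => mQ.2 ⟨hg, h⟩) fun h =>
      mQ.2 ⟨mul_mem (inv_mem hs) hg, by rw [mul_smul, h, inv_smul_smul]⟩
  have hsR : s ∈ R := mR.2 ⟨hs, s2⟩
  have ti' : ∀ g ∈ (S : Subgroup G), ∀ x ∈ Q, x ≠ 1 → g⁻¹ * x * g ∈ Q → g ∈ R := fun g hg x hx x1 e =>
    (ti g hg x hx x1 e).elim (fun h => hQR h) fun h => by simpa using mul_mem hsR (hQR h)
  have rr : ∀ g ∈ R, g ∉ Q → s⁻¹ * g ∈ Q := fun g hg h =>
    (ti g (hRS hg) z hz z1 (conj_mem_of_mem_normalizer' (mR.1 hg).2 hz)).resolve_left h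
  have i2 : Q.relIndex R = 2 := le_antisymm (relIndex_le_two fun x hx y hy h1 h2 => by
    simpa [mul_assoc] using mul_mem (inv_mem (rr x hx h1)) (rr y hy h2)) (two_le_relIndex fun e => s1 (e hsR))
  have big : R ≠ S → ∃ g : G, ∀ q ∈ Q, g * q * g⁻¹ ∈ R ∧ (q ≠ 1 → g * q * g⁻¹ ∉ Q) := fun e => by
    obtain ⟨g, hg, g1, g2⟩ := exists_mem_normalizer_of_lt S.isPGroup' (lt_of_le_of_ne hRS e)
    exact ⟨g, fun q hq => ⟨conj_mem_of_mem_normalizer g2 (hQR hq), fun q1 h =>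
      g1 (by simpa using inv_mem (ti' g⁻¹ (inv_mem hg) q hq q1 (by simpa using h)))⟩⟩
  by_cases hu : ∃ u ∈ R, u ∉ Q ∧ ∃ γ : Ω, u • γ = γ
  · obtain ⟨u, hu, u1, γ, hγ⟩ := hu
    have uα : u • α = s • α := by
      have := (mQ.1 (rr u hu u1)).2
      rwa [mul_smul, inv_smul_eq_iff] at this
    have uu := mul_mem_of_le_two i2.le hu hu u1 u1
    have out : ∀ δ : Ω, u • δ = δ → ∀ q ∈ Q, q • δ = δ → q = 1 := fun δ e q hq e1 => by_contra fun q1 => by
      rcases fx q hq q1 δ e1 with rfl | rfl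
      · exact hne (e.symm.trans uα)
      · refine hne ?_
        rw [← e, ← uα, ← mul_smul, (mQ.1 uu).2]
    have u2 : orderOf u = 2 := orderOf_two_of_mul_self (out γ hγ _ uu (by rw [mul_smul, hγ, hγ]))
      fun e => u1 (e ▸ Q.one_mem)
    have small : ∀ d ∈ Q, u * d = d * u → d = 1 ∨ d = z := fun d hd e => by
      have k : ∀ d, u * d = d * u → u • d • γ = d • γ := fun d e => by rw [← mul_smul, e, mul_smul, hγ]
      refine (fix2 hfix (α := γ) (β := z • γ) (fun e => z1 (out γ hγ z hz e.symm)) (ne_one_of_orderOf_two u2) hγ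
        (k z (zc u hu)) (k d e)).imp (out γ hγ d hd) fun h => ?_
      rw [← inv_smul_eq_iff, ← mul_smul] at h
      exact (inv_mul_eq_one.1 (out γ hγ _ (mul_mem (inv_mem hz) hd) h)).symm
    refine Or.inl ⟨dih_of_four S S (hRS (hQR hz)) (hRS hu) z2 u2 (fun e => u1 (e ▸ hz)) (zc u hu).symm
      fun c hc e1 e2 => ?_, ?_⟩
    · by_cases e3 : c ∈ Q
      · exact (small c e3 e2).imp id Or.inl
      have u3 := mul_self_of_orderOf_two u2
      rcases small (c * u) (mul_mem_of_le_two i2.le (ti' c hc z hz z1 (by rwa [mul_assoc, e1, inv_mul_cancel_left]))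
        hu e3 u1) (by rw [← mul_assoc, e2]) with e | e
      · exact Or.inr (Or.inr (Or.inl (by rw [← mul_one c, ← u3, ← mul_assoc, e, one_mul])))
      · exact Or.inr (Or.inr (Or.inr (by rw [← e, mul_assoc, u3, mul_one])))
    · by_cases e : R = S
      · exact Or.inr (e ▸ i2)
      obtain ⟨g, hg⟩ := big e
      refine Or.inl (le_antisymm (card_le_two (z := z) fun q hq => or_iff_not_imp_left.2 fun q1 => by_contra fun e => ?_)
        (two_le_card hz z1))
      refine (hg (q * z) (mul_mem hq hz)).2 (fun e1 => e ?_) ?_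
      · rw [← mul_one q, ← mul_self_of_orderOf_two z2, ← mul_assoc, e1, one_mul]
      · simpa [mul_assoc] using mul_mem_of_le_two i2.le (hg q hq).1 (hg z hz).1 ((hg q hq).2 q1) ((hg z hz).2 z1)
  push Not at hu
  have e : R = S := by_contra fun e => by
    obtain ⟨g, hg⟩ := big e
    exact hu _ (hg z hz).1 ((hg z hz).2 z1) (g • α) (by rw [mul_smul, inv_smul_smul, mul_smul, (mQ.1 hz).2])
  rw [e] at hu i2 hQR
  have hf : ∀ u ∈ (S : Subgroup G), ∀ γ : Ω, u • γ = γ → u ∈ Q := fun u h γ e => by_contra fun e' => hu u h e' γ e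
  have i3 : (stabilizer G α).relIndex S = 2 := by rw [← inf_relIndex_left, hQ, i2]
  have ob : ∀ ω : Ω, Nat.card (orbit (S : Subgroup G) ω) = (stabilizer G ω).relIndex S := fun ω => by
    rw [Nat.card_coe_set_eq, ← index_stabilizer]; rfl
  refine Or.inr ⟨by linarith [two_mul_card_le hQR fun e => s1 (e hs), two_le_card hz z1], ⟨α, (ob α).trans i3,
    fun ω hω => ?_⟩, frob2 hfix htr S.not_dvd_index hs hne z1 (mQ.1 hz).2 (hβ z hz) i3
    fun u h γ e => (mQ.1 (hf u h γ e)).2⟩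
  rw [ob, ← inf_relIndex_left, (eq_bot_iff_forall ((S : Subgroup G) ⊓ stabilizer G ω)).2 fun x hx =>
    by_contra fun x1 => ?_, relIndex_bot_left]
  rcases fx x (hf x hx.1 ω hx.2) x1 ω hx.2 with rfl | rfl
  · exact hω (mem_orbit_self _)
  · exact hω ⟨⟨s, hs⟩, rfl⟩

end CfsgLib.Fix
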